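import Cfsg.Agent.H686.CharKit
import Cfsg.Agent.H703.K6.Facts
import Cfsg.Agent.OddOrderCharacters.PF13.SumBound
import Cfsg.Agent.Blocks.Knorr

/-!
# Class numbers by centralizers of elements of prime order (helper755, S4908)

* `card_prime_to_le` : the number of irreducible characters of degree prime to `p` is at most `|C_T(z)|`, `z` an element of
  order `p`;
* `card_conj_le` : `k(T) ≤ ∑_{p ∈ s} c_p + |T| / (∏ s)²`, where `c_p` bounds the centralizer order of an element of order `p`.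
-/

set_option autoImplicit false
set_option linter.unusedSectionVars false
set_option linter.style.haveILetI false

universe u v

namespace Cfsg.Agent.H755.S8

open Cfsg Cfsg.Agent.Characters.Core Cfsg.Agent.H686.CharKit
open Cfsg.Agent.OddOrderCharacters.VChar
open scoped ComplexConjugate

variable {T : Type u} [Group T] [Finite T]

theorem cent_pow {z : T} {m : ℕ} (h : m.Coprime (Nat.card T)) :
    Subgroup.centralizer ({z ^ m} : Set T) = Subgroup.centralizer ({z} : Set T) := by
  ext x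
  rw [Subgroup.mem_centralizer_singleton_iff, Subgroup.mem_centralizer_singleton_iff]
  constructor
  · intro hx
    have h1 : m.Coprime (orderOf z) := Nat.Coprime.coprime_dvd_right (orderOf_dvd_natCard z) h
    obtain ⟨k, hk⟩ := exists_pow_eq_self_of_coprime h1
    rw [← hk]
    exact (show Commute x (z ^ m) from hx).pow_right k
  · intro hx
    exact (show Commute x z from hx).pow_right m

/-- the irreducible characters of degree prime to `p` -/
theorem card_prime_to_le {p : ℕ} (hp : p.Prime) {z : T} (hz : orderOf z = p) [Fintype (IrrCharacter T)]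
    [DecidablePred fun χ : IrrCharacter T => ¬ p ∣ charDegree (χ : T → ℂ)] :
    (Finset.univ.filter fun χ : IrrCharacter T => ¬ p ∣ charDegree (χ : T → ℂ)).card ≤
      Nat.card (Subgroup.centralizer ({z} : Set T)) := by
  classical
  have : Fact p.Prime := ⟨hp⟩
  have := Fintype.ofFinite T
  obtain ⟨M, hM⟩ := Cfsg.Agent.Blocks.Knorr.exists_isPModular p
  let X : Finset T := Finset.univ.filter fun g => ∃ m : ℕ, m.Coprime (Nat.card T) ∧ g = z ^ m
  have hXz : ∀ g ∈ X, ∃ m : ℕ, m.Coprime (Nat.card T) ∧ g = z ^ m := fun g hg => (Finset.mem_filter.1 hg).2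
  have hX : ∀ g ∈ X, ∀ m : ℕ, m.Coprime (Nat.card T) → g ^ m ∈ X := by
    intro g hg m hm
    obtain ⟨k, hk, rfl⟩ := hXz g hg
    exact Finset.mem_filter.2 ⟨Finset.mem_univ _, k * m, hk.mul_left hm, (pow_mul z k m).symm⟩
  have hne : X.Nonempty := ⟨z, Finset.mem_filter.2 ⟨Finset.mem_univ _, 1, Nat.coprime_one_left _, (pow_one z).symm⟩⟩
  have h1 : ∀ χ ∈ (Finset.univ.filter fun χ : IrrCharacter T => ¬ p ∣ charDegree (χ : T → ℂ)),
      (X.card : ℝ) ≤ ∑ g ∈ X, ‖(χ : T → ℂ) g‖ ^ 2 := by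
    intro χ hχ
    have hχ' := (Finset.mem_filter.1 hχ).2
    have h := Cfsg.Agent.OddOrderCharacters.PF13.SumBound.card_le_sum_sq (G := T) ({χ} : Finset (IrrCharacter T))
      (fun χ => (χ : T → ℂ)) (fun i _ => gen_of_irr i.2) X hX ?_
    · simpa using h
    · intro g hg
      refine ⟨χ, Finset.mem_singleton_self χ, ?_⟩
      obtain ⟨m, hm, rfl⟩ := hXz g hg
      refine Cfsg.Agent.H703.K6.apply_ne_zero hM χ hχ' ?_
      have h2 : orderOf (z ^ m) = p := by
        rw [Nat.Coprime.orderOf_pow, hz]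
        exact (Nat.Coprime.coprime_dvd_right (orderOf_dvd_natCard z) hm).symm
      exact ⟨1, by rw [h2, pow_one]⟩
  have h2 := Finset.sum_le_sum h1
  rw [Finset.sum_const, nsmul_eq_mul, Finset.sum_comm] at h2
  have h3 : ∀ g ∈ X, ∑ χ ∈ (Finset.univ.filter fun χ : IrrCharacter T => ¬ p ∣ charDegree (χ : T → ℂ)),
      ‖(χ : T → ℂ) g‖ ^ 2 ≤ (Nat.card (Subgroup.centralizer ({z} : Set T)) : ℝ) := by
    intro g hg
    obtain ⟨m, hm, rfl⟩ := hXz g hg
    have h4 := sum_normSq (G := T) (z ^ m)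
    rw [cent_pow hm] at h4
    rw [← h4]
    refine (Finset.sum_le_sum_of_subset_of_nonneg (Finset.subset_univ _) fun _ _ _ => by positivity).trans_eq ?_
    exact Finset.sum_congr rfl fun χ _ => (Complex.normSq_eq_norm_sq _).symm
  have h5 := h2.trans (Finset.sum_le_sum h3)
  rw [Finset.sum_const, nsmul_eq_mul, mul_comm] at h5
  have h6 : (0 : ℝ) < X.card := by exact_mod_cast hne.card_pos
  exact_mod_cast le_of_mul_le_mul_left h5 h6

/-- **the class number** -/
theorem card_conj_le (s : Finset ℕ) (hs : ∀ p ∈ s, p.Prime) (c : ℕ → ℕ)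
    (hc : ∀ p ∈ s, ∃ z : T, orderOf z = p ∧ Nat.card (Subgroup.centralizer ({z} : Set T)) ≤ c p) :
    Nat.card (ConjClasses T) ≤ ∑ p ∈ s, c p + Nat.card T / (∏ p ∈ s, p) ^ 2 := by
  classical
  have := finite_irr (G := T)
  have := Fintype.ofFinite (IrrCharacter T)
  rw [← card_irr, Nat.card_eq_fintype_card]
  set A := s.biUnion fun p => Finset.univ.filter fun χ : IrrCharacter T => ¬ p ∣ charDegree (χ : T → ℂ) with hA
  have h1 : A.card ≤ ∑ p ∈ s, c p := by
    refine Finset.card_biUnion_le.trans (Finset.sum_le_sum fun p hp => ?_)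
    obtain ⟨z, hz, hz'⟩ := hc p hp
    exact (card_prime_to_le (hs p hp) hz).trans hz'
  have hpos : 0 < (∏ p ∈ s, p) ^ 2 := pow_pos (Finset.prod_pos fun p hp => (hs p hp).pos) 2
  have h2 : Aᶜ.card ≤ Nat.card T / (∏ p ∈ s, p) ^ 2 := by
    rw [Nat.le_div_iff_mul_le hpos, ← sum_deg_sq (G := T), ← smul_eq_mul, ← Finset.sum_const]
    refine (Finset.sum_le_sum fun χ hχ => ?_).trans (Finset.sum_le_sum_of_subset (Finset.subset_univ Aᶜ))
    refine Nat.pow_le_pow_left (Nat.le_of_dvd (charDegree_pos χ) ?_) 2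
    refine Finset.prod_primes_dvd _ (fun p hp => (hs p hp).prime) fun p hp => ?_
    by_contra hcon
    exact (Finset.mem_compl.1 hχ) (Finset.mem_biUnion.2 ⟨p, hp, Finset.mem_filter.2 ⟨Finset.mem_univ _, hcon⟩⟩)
  rw [← Finset.card_add_card_compl A]
  exact Nat.add_le_add h1 h2

/-- the class number, indexed version -/
theorem card_conj_le' {ι : Type*} (S : Finset ι) (r c : ι → ℕ) (hinj : Set.InjOn r (S : Set ι)) (hr : ∀ i ∈ S, (r i).Prime)
    (hc : ∀ i ∈ S, ∃ z : T, orderOf z = r i ∧ Nat.card (Subgroup.centralizer ({z} : Set T)) ≤ c i) :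
    Nat.card (ConjClasses T) ≤ ∑ i ∈ S, c i + Nat.card T / (∏ i ∈ S, r i) ^ 2 := by
  classical
  have := finite_irr (G := T)
  have := Fintype.ofFinite (IrrCharacter T)
  rw [← card_irr, Nat.card_eq_fintype_card]
  set A := S.biUnion fun i => Finset.univ.filter fun χ : IrrCharacter T => ¬ r i ∣ charDegree (χ : T → ℂ) with hA
  have h1 : A.card ≤ ∑ i ∈ S, c i := by
    refine Finset.card_biUnion_le.trans (Finset.sum_le_sum fun i hi => ?_)
    obtain ⟨z, hz, hz'⟩ := hc i hi
    exact (card_prime_to_le (hr i hi) hz).trans hz'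
  have hpos : 0 < (∏ i ∈ S, r i) ^ 2 := pow_pos (Finset.prod_pos fun i hi => (hr i hi).pos) 2
  have h2 : Aᶜ.card ≤ Nat.card T / (∏ i ∈ S, r i) ^ 2 := by
    rw [Nat.le_div_iff_mul_le hpos, ← sum_deg_sq (G := T), ← smul_eq_mul, ← Finset.sum_const]
    refine (Finset.sum_le_sum fun χ hχ => ?_).trans (Finset.sum_le_sum_of_subset (Finset.subset_univ Aᶜ))
    refine Nat.pow_le_pow_left (Nat.le_of_dvd (charDegree_pos χ) ?_) 2
    rw [← Finset.prod_image (g := r) (f := fun p => p) hinj]
    refine Finset.prod_primes_dvd _ (fun p hp => ?_) fun p hp => ?_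
    · obtain ⟨i, hi, rfl⟩ := Finset.mem_image.1 hp
      exact (hr i hi).prime
    · obtain ⟨i, hi, rfl⟩ := Finset.mem_image.1 hp
      by_contra hcon
      exact (Finset.mem_compl.1 hχ) (Finset.mem_biUnion.2 ⟨i, hi, Finset.mem_filter.2 ⟨Finset.mem_univ _, hcon⟩⟩)
  rw [← Finset.card_add_card_compl A]
  exact Nat.add_le_add h1 h2

end Cfsg.Agent.H755.S8
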