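import Cfsg.Agent.H755.S8.KL
import Cfsg.Agent.H147.Gen.Eng
import Cfsg.Agent.H704.S8.Defs

/-!
# The rows FROB of S4908 by the order engine (helper755)

`chkF c n loc m` : for a subgroup of order `m` of the group of order `n` with the local data `loc`, the bound
`c m k ≤ n` holds with `k = m` or `k = ∑ C_r + m / (∏ r)²` for a sublist of `loc` of primes dividing `m`.
-/

set_option autoImplicit false
set_option linter.unusedSectionVars false
set_option linter.style.haveILetI false

universe u v

namespace Cfsg.Agent.H755.S8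

open Subgroup Cfsg Cfsg.Agent.H940 Cfsg.Agent.H940.Eng Cfsg.Agent.H704.S8

/-- the test for one sublist -/
def chkS (c n m : ℕ) (s : List LD) : Bool :=
  (s.all fun ld => Nat.beq (m % ld.r) 0) &&
    Nat.ble (c * (m * ((s.map fun ld => ld.C).sum + m / ((s.map fun ld => ld.r).prod ^ 2)))) n

/-- the test for an order -/
def chkF (c n : ℕ) (loc : List LD) (m : ℕ) : Bool :=
  Nat.ble (c * (m * m)) n || loc.sublists.any fun s => chkS c n m s

variable {G : Type u} [Group G]

theorem card_conj_le_card [Finite G] : Nat.card (ConjClasses G) ≤ Nat.card G :=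
  Nat.card_le_card_of_surjective _ ConjClasses.mk_surjective

theorem le_of_chkF [Finite G] {c n : ℕ} {loc : List LD} (hl : ∀ ld ∈ loc, Loc G ld) (hC : ∀ ld ∈ loc, 0 < ld.C)
    (hnd : (loc.map fun ld => ld.r).Nodup) (T : Subgroup G) (h : chkF c n loc (Nat.card T) = true) :
    c * (Nat.card T * Nat.card (ConjClasses T)) ≤ n := by
  unfold chkF at h
  rw [Bool.or_eq_true, Nat.ble_eq, List.any_eq_true] at h
  rcases h with h | ⟨s, hs, h⟩
  · exact (Nat.mul_le_mul_left _ (Nat.mul_le_mul_left _ card_conj_le_card)).trans h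
  · rw [List.mem_sublists] at hs
    unfold chkS at h
    rw [Bool.and_eq_true, List.all_eq_true, Nat.ble_eq] at h
    obtain ⟨h1, h2⟩ := h
    refine le_trans (Nat.mul_le_mul_left _ (Nat.mul_le_mul_left _ ?_)) h2
    classical
    have hnd' : (s.map fun ld => ld.r).Nodup := hnd.sublist (hs.map _)
    have hns : s.Nodup := List.Nodup.of_map _ hnd'
    have hinj : Set.InjOn (fun ld : LD => ld.r) (s.toFinset : Set LD) := by
      intro a ha b hb hab
      exact List.inj_on_of_nodup_map hnd' (List.mem_toFinset.1 ha) (List.mem_toFinset.1 hb) hab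
    have key := card_conj_le' (T := T) s.toFinset (fun ld => ld.r) (fun ld => ld.C) hinj
      (fun ld hld => (hl ld (hs.subset (List.mem_toFinset.1 hld))).1) ?_
    · rwa [List.sum_toFinset _ hns, List.prod_toFinset _ hns] at key
    · intro ld hld
      have hls := List.mem_toFinset.1 hld
      have hL := hl ld (hs.subset hls)
      have : Fact ld.r.Prime := ⟨hL.1⟩
      obtain ⟨z, hz⟩ := exists_prime_orderOf_dvd_card' (G := T) ld.r 
        (Nat.dvd_of_mod_eq_zero (Nat.eq_of_beq_eq_true (h1 ld hls)))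
      refine ⟨z, hz, ?_⟩
      have hzG : Nat.card (zpowers (z : G)) = ld.r := by rw [Nat.card_zpowers, Subgroup.orderOf_coe, hz]
      have h3 := (hL.2.2.2 _ hzG).1
      refine le_trans ?_ (Nat.le_of_dvd (hC ld (hs.subset hls)) h3)
      refine Nat.card_le_card_of_injective (fun x : centralizer ({z} : Set T) =>
        (⟨((x : T) : G), ?_⟩ : centralizer ((zpowers (z : G) : Subgroup G) : Set G))) ?_
      · rw [mem_centralizer_iff]
        intro y hy
        obtain ⟨k, rfl⟩ := mem_zpowers_iff.1 hy
        have h4 : (x : T) * z = z * x := mem_centralizer_singleton_iff.1 x.2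
        exact ((show Commute (((x : T) : G)) (z : G) from congrArg Subtype.val h4).zpow_right k).symm
      · intro a b hab
        exact Subtype.ext (Subtype.ext (congrArg (fun w : centralizer ((zpowers (z : G) : Subgroup G) : Set G) => (w : G)) hab))

section orders

variable {l : List (ℕ × ℕ)} {n : ℕ} {ords : List ℕ} {loc : List LD}

/-- `chkO2` with a predicate in place of the list of the possible orders -/
def chkP (l : List (ℕ × ℕ)) (n a : ℕ) (ld : LD) (P : ℕ → Bool) (full : List ℕ) (bd : ℕ) (loc : List LD) (ords : List ℕ) : Bool :=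
  a % ld.r == 0 && (ld.r :: ords).all fun s => s % ld.r != 0 || n % s != 0 || (divsT ld.fN).all fun t =>
    (ld.N / ld.r) % t != 0 || n % (s * t) != 0 || !(nuc (divsT ld.fN) ld.r ld.N s t) ||
      allK ld.r ld.C n (fun m => m % a != 0 || m == n || P m || bad l n full bd loc ords m) l (s * t)

/-- the orders of the proper subgroups of order divisible by `a` satisfy `P` -/
theorem ordersP (c : Ctx G l n ords loc) {a : ℕ} (ld : LD) (hld : ld ∈ loc) (P : ℕ → Bool) (full : List ℕ) (bd : ℕ)
    (hc : chkP l n a ld P full bd loc ords = true) {K : Subgroup G} (ha : a ∣ Nat.card K)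
    (hf : ∀ p ∈ full, Full p K) (hK : K ≠ ⊤) : P (Nat.card K) = true := by
  haveI := c.fin
  haveI := c.simple
  unfold chkP at hc
  rw [Bool.and_eq_true, beq_iff_eq, List.all_eq_true] at hc
  obtain ⟨hc1, hc2⟩ := hc
  have hr : ld.r ∣ Nat.card K := (Nat.dvd_of_mod_eq_zero hc1).trans ha
  obtain ⟨k, s, t, e1, e2, e3, e4, e5, e6, e7, e8, -⟩ := struct_sub c.val c.card c.ords (c.loc ld hld) hr
  have hHn : Nat.card K ∣ n := c.card ▸ card_subgroup_dvd_card K
  have hkn : k ∣ n := dvd_trans (by rw [e1]; exact ⟨s * t, by ring⟩) hHn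
  have h1 := hc2 s e3
  rw [Bool.or_eq_true, Bool.or_eq_true, bne_iff_ne, bne_iff_ne, List.all_eq_true] at h1
  rcases h1 with (h1 | h1) | h1
  · exact absurd (Nat.mod_eq_zero_of_dvd e4) h1
  · exact absurd (Nat.mod_eq_zero_of_dvd (dvd_trans (by rw [e1]; exact ⟨k * t, by ring⟩) hHn)) h1
  · have h2 := h1 t e5
    rw [Bool.or_eq_true, Bool.or_eq_true, Bool.or_eq_true, bne_iff_ne, bne_iff_ne, e8] at h2
    rcases h2 with ((h2 | h2) | h2) | h2
    · exact absurd (Nat.mod_eq_zero_of_dvd e2) h2
    · exact absurd (Nat.mod_eq_zero_of_dvd (dvd_trans (by rw [e1]; exact ⟨k, by ring⟩) hHn)) h2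
    · exact absurd h2 (by decide)
    · have h3 := allK_sound h2 (fun p => k.factorization p) (fun x hx => ⟨?_, e7 _ (OrdDiv.valid_prime c.val x hx)⟩)
      · rw [prod_factor c.val c.nodup hkn] at h3
        have h4 : s * t * k = Nat.card K := by rw [e1]; ring
        rw [h4] at h3
        have h5 := h3 hHn
        rw [Bool.or_eq_true, Bool.or_eq_true, Bool.or_eq_true, bne_iff_ne, beq_iff_eq,
          not_bad c.val c.card c.ords c.loc hf hK] at h5
        rcases h5 with ((h5 | h5) | h5) | h5
        · exact absurd (Nat.mod_eq_zero_of_dvd ha) h5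
        · exact absurd ((card_eq_iff_eq_top K).1 (by rw [h5, c.card])) hK
        · exact h5
        · exact absurd h5 (by decide)
      · by_contra hlt
        push Not at hlt
        have h6 : x.1 ^ (x.2 + 1) ∣ k := (pow_dvd_pow _ hlt).trans (Nat.ordProj_dvd _ _)
        exact OrdDiv.valid_exact c.val x hx (h6.trans hkn)

end orders

/-- **FROB by the order engine.** -/
theorem frobRow_of_eng {l : List (ℕ × ℕ)} {n : ℕ} {ords : List ℕ} {loc : List LD} (ctx : Ctx G l n ords loc)
    (hC : ∀ ld ∈ loc, 0 < ld.C) (hnd : (loc.map fun ld => ld.r).Nodup) {c p q : ℕ} (hp : p.Prime) (hq : q.Prime)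
    (hpn : p ∣ n)
    (hN : ∀ R : Subgroup G, Nat.card R = p → q ∣ Nat.card (normalizer (R : Set G)) ∧
      ¬ q ∣ Nat.card (centralizer (R : Set G)))
    (ldp ldq : LD) (hldp : ldp ∈ loc) (hldq : ldq ∈ loc) (bd : ℕ)
    (hcp : chkP l n p ldp (chkF c n loc) [] bd loc ords = true)
    (hcq : chkP l n q ldq (chkF c n loc) [] bd loc ords = true) (D : Set ℕ) : FrobRow c D G := by
  have := ctx.fin
  have : Fact p.Prime := ⟨hp⟩
  have : Fact q.Prime := ⟨hq⟩
  obtain ⟨y, hy⟩ := exists_prime_orderOf_dvd_card' (G := G) p (by rw [ctx.card]; exact hpn)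
  have hP : Nat.card (zpowers y : Subgroup G) = p := by rw [Nat.card_zpowers, hy]
  obtain ⟨hNq, hCq⟩ := hN _ hP
  obtain ⟨w, hw⟩ := exists_prime_orderOf_dvd_card' (G := normalizer ((zpowers y : Subgroup G) : Set G)) q hNq
  have hw' : orderOf (w : G) = q := by rw [Subgroup.orderOf_coe, hw]
  have hQ : Nat.card (zpowers (w : G) : Subgroup G) = q := by rw [Nat.card_zpowers, hw']
  refine ⟨zpowers y, zpowers (w : G), by rw [hP]; exact hp, ?_, ?_, ?_, ?_⟩
  · rw [zpowers_le]
    exact w.2
  · intro u hu g hg hgu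
    by_contra hcon
    push Not at hcon
    obtain ⟨hu1, hg1⟩ := hcon
    apply hCq
    have h1 : zpowers u = zpowers y := by
      apply Subgroup.eq_of_le_of_card_ge (zpowers_le.2 hu)
      rw [hP, Nat.card_zpowers]
      refine Nat.le_of_dvd (orderOf_pos u) ?_
      rcases (Nat.dvd_prime hp).1 (hP ▸ (Nat.card_zpowers u ▸ Subgroup.card_dvd_of_le (zpowers_le.2 hu))) with h | h
      · exact absurd (orderOf_eq_one_iff.1 h) hu1
      · rw [h]
    have h2 : g ∈ centralizer ((zpowers y : Subgroup G) : Set G) := by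
      rw [← h1, mem_centralizer_iff]
      intro x hx
      obtain ⟨k, rfl⟩ := mem_zpowers_iff.1 hx
      exact ((show Commute g u from hgu).zpow_right k).symm
    have h3 : orderOf g = q := by
      rcases (Nat.dvd_prime hq).1 (hQ ▸ (Nat.card_zpowers g ▸ Subgroup.card_dvd_of_le (zpowers_le.2 hg))) with h | h
      · exact absurd (orderOf_eq_one_iff.1 h) hg1
      · exact h
    rw [← h3, ← Subgroup.orderOf_mk g h2]
    exact orderOf_dvd_natCard _
  · intro h
    rw [h, Subgroup.card_bot] at hQ
    exact hq.one_lt.ne hQ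
  · intro T hT hPQ _
    rw [ctx.card]
    refine le_of_chkF ctx.loc hC hnd T ?_
    rcases hPQ with h | h
    · exact ordersP ctx ldp hldp _ [] bd hcp (hP ▸ Subgroup.card_dvd_of_le h) (by simp) hT
    · exact ordersP ctx ldq hldq _ [] bd hcq (hQ ▸ Subgroup.card_dvd_of_le h) (by simp) hT

end Cfsg.Agent.H755.S8
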