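import Cfsg.Agent.H755.S8.RowHN
import Cfsg.Agent.H388.HNF.Ab
import Cfsg.Agent.H680.S8.LW
import Cfsg.Agent.H143.HT.HNRank
import Cfsg.Agent.H175.HNF.NonAb
import Cfsg.Agent.H525.RO.HnElt
import Cfsg.Agent.H680.HNF.NoFF

/-!
# S4908, the row FROB of the Harada-Norton group (assembly, helper755)

Abelian normal subgroups: helper388 (`H388.HNF.Ab`), with the 2-ranks of helper680 and helper143; no abelian normal subgroup:
helper175 (`H175.HNF.NonAb`); class numbers and the order engine: `H755.S8.RowHN`.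
-/

set_option autoImplicit false

namespace Cfsg.Agent.H755.S8.HN

open Subgroup Cfsg Cfsg.Agent.H940.Eng Cfsg.Agent.H704.S8
open Cfsg.Agent.H651.HNF (cn raw)
open Cfsg.Agent.H388.HNF (Bd Fit BdN Fx)

universe v

theorem fx : @Fx G _ fin := by
  have := fin
  have := simple
  exact
    { card := raw.card
      c2 := raw.r2
      c3 := raw.r3
      c7 := raw.r7
      c11 := raw.r11
      c9 := raw.r9
      o25 := ⟨Cfsg.Agent.H525.RO.HnElt.r, Cfsg.Agent.H525.RO.HnElt.orderOf_r⟩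
      no64 := fun w hw E hE h2 hc => Cfsg.Agent.H680.S8.LW.no64 hw E hE h2 hc
      no4096 := Cfsg.Agent.H143.HT.HNRank.no4096 }

theorem bd_ab (T : Subgroup G) (q : G) (hq : q ∈ T) (h9 : orderOf q = 9) (h19 : ¬ 19 ∣ Nat.card T) (hF : ¬ Fit T) :
    Bd T := by
  have := fin
  unfold Fit at hF
  push Not at hF
  obtain ⟨V, hVT, hN, hab, hne⟩ := hF
  rcases Cfsg.Agent.H388.HNF.ab fx hq h9 h19 hVT hN hab hne with h | h | h | h
  · exact Or.inl h
  · exact Or.inr (Or.inl h)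
  · exact Or.inr (Or.inr (Or.inr (Or.inl h)))
  · exact Or.inr (Or.inr (Or.inr (Or.inr (Or.inr h))))

theorem bd_nonab (B : Base) (T : Subgroup G) (q : G) (hq : q ∈ T) (h9 : orderOf q = 9) (h19 : ¬ 19 ∣ Nat.card T)
    (hF : Fit T) : Bd T :=
  Cfsg.Agent.H175.HNF.nonab raw B Cfsg.Agent.H680.HNF.no45 hq h9 h19 hF

/-- **FROB HN** -/
theorem row (B : Base) {X : Type v} [Group X] (hX : Spor.IsoHN X) (D : Set ℕ) : FrobRow 2 D X :=
  row_iso B bd_ab (bd_nonab B) hX D

end Cfsg.Agent.H755.S8.HN
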