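import Cfsg.Agent.H204.Ore.LyFive
import Cfsg.Agent.H513.AbLy
import Cfsg.Agent.H511.Ore.RowLy

/-!
# No subgroup of order `5 ^ 5` of the Lyons group is normalized by an element of order 11 (helper755, S4908)
-/

set_option autoImplicit false
set_option linter.unusedSectionVars false
set_option linter.style.haveILetI false

namespace Cfsg.Agent.H755.S8.Ly

open Subgroup Equiv Cfsg
open Cfsg.Agent Cfsg.Agent.SporRec Cfsg.Agent.SporRec.TwoAn Cfsg.Agent.SporRec.LyType Cfsg.Agent.SporRec.LyFiveCore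
open Cfsg.Agent.SporRec.LyFiveSix

universe u

section gen

variable {G : Type u} [Group G] [Finite G]

/-- an "extraspecial" group `E` of order `5 ^ 5` has no abelian subgroup of order divisible by `5 ^ 4` -/
theorem no_abelian {E : Subgroup G} {f : G} (hf5 : orderOf f = 5) (hE : Nat.card E = 5 ^ 5)
    (hcen : ∀ a ∈ E, (∀ k ∈ E, a * k = k * a) → a ∈ zpowers f)
    (hcom : ∀ a ∈ E, ∀ b ∈ E, a * b * a⁻¹ * b⁻¹ ∈ zpowers f) (hfc : ∀ a ∈ E, a * f = f * a)
    (B : Subgroup G) (hBE : B ≤ E) (hab : ∀ a ∈ B, ∀ b ∈ B, a * b = b * a) (h4 : 5 ^ 4 ∣ Nat.card B) : False := by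
  have hzf : ∀ z ∈ zpowers f, ∀ a ∈ E, z * a = a * z := by
    rintro _ ⟨k, rfl⟩ a ha
    exact ((show Commute a f from hfc a ha).zpow_right k).symm
  have hfcard : Nat.card (zpowers f) = 5 := by rw [Nat.card_zpowers, hf5]
  -- an element outside
  have hne : ∃ e ∈ E, e ∉ B := by
    by_contra hcon
    push Not at hcon
    have h1 : E ≤ zpowers f := fun a ha => hcen a ha fun k hk => hab a (hcon a ha) k (hcon k hk)
    have h2 := Subgroup.card_dvd_of_le h1
    rw [hE, hfcard] at h2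
    norm_num at h2
  obtain ⟨e, he, heB⟩ := hne
  set K : Subgroup G := B ⊓ centralizer ({e} : Set G) with hK
  -- the elements of `K` are central in `E`
  have hKZ : K ≤ zpowers f := by
    intro k hk
    obtain ⟨hkB, hke⟩ := mem_inf.1 hk
    refine hcen k (hBE hkB) fun a ha => ?_
    have h1 : B ≤ E ⊓ centralizer ({k} : Set G) := le_inf hBE fun b hb =>
      mem_centralizer_singleton_iff.2 (hab b hb k hkB)
    have h2 : e ∈ E ⊓ centralizer ({k} : Set G) := mem_inf.2 ⟨he, mem_centralizer_singleton_iff.2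
      (mem_centralizer_singleton_iff.1 hke).symm⟩
    have h3 : E ⊓ centralizer ({k} : Set G) = E := by
      apply Subgroup.eq_of_le_of_card_ge inf_le_left
      have h5 := Subgroup.card_dvd_of_le h1
      have h6 : Nat.card ↥(E ⊓ centralizer ({k} : Set G)) ∣ 5 ^ 5 := hE ▸ Subgroup.card_dvd_of_le inf_le_left
      obtain ⟨i, hi, hi'⟩ := (Nat.dvd_prime_pow Nat.prime_five).1 h6
      have h7 : 4 ≤ i := (Nat.pow_dvd_pow_iff_le_right (by norm_num)).1 (hi' ▸ (h4.trans h5))
      have h8 : i ≠ 4 := by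
        rintro rfl
        have h9 : B = E ⊓ centralizer ({k} : Set G) := by
          apply Subgroup.eq_of_le_of_card_ge h1
          rw [hi']
          exact Nat.le_of_dvd Nat.card_pos h4
        exact heB (h9 ▸ h2)
      have h9 : i = 5 := by omega
      rw [hE, hi', h9]
    have h4 : a ∈ E ⊓ centralizer ({k} : Set G) := by rw [h3]; exact ha
    exact (mem_centralizer_singleton_iff.1 (mem_inf.1 h4).2).symm
  -- the commutator map
  have hφ : ∀ b : B, (b : G) * e * (b : G)⁻¹ * e⁻¹ ∈ zpowers f := fun b => hcom b (hBE b.2) e he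
  let φ : B → zpowers f := fun b => ⟨_, hφ b⟩
  have hinj : ∀ a b : B, φ a = φ b → (a : G)⁻¹ * b ∈ K := by
    intro a b h
    have h1 : (a : G) * e * (a : G)⁻¹ * e⁻¹ = (b : G) * e * (b : G)⁻¹ * e⁻¹ := congrArg Subtype.val h
    have h2 : (a : G) * e * (a : G)⁻¹ = (b : G) * e * (b : G)⁻¹ := mul_right_cancel h1
    refine mem_inf.2 ⟨mul_mem (inv_mem a.2) b.2, mem_centralizer_singleton_iff.2 ?_⟩
    calc (a : G)⁻¹ * b * e = (a : G)⁻¹ * ((b : G) * e * (b : G)⁻¹) * b := by group
      _ = (a : G)⁻¹ * ((a : G) * e * (a : G)⁻¹) * b := by rw [h2]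
      _ = e * ((a : G)⁻¹ * b) := by group
  have hle : Nat.card B ≤ Nat.card (zpowers f) * Nat.card K := by
    classical
    rw [← Nat.card_prod]
    let s : zpowers f → B := fun z => if h : ∃ b : B, φ b = z then h.choose else 1
    have hs : ∀ b : B, φ (s (φ b)) = φ b := by
      intro b
      have h : ∃ b' : B, φ b' = φ b := ⟨b, rfl⟩
      show φ (dite _ _ _) = _
      rw [dif_pos h]
      exact h.choose_spec
    refine Nat.card_le_card_of_injective (fun b : B => ((φ b, ⟨_, hinj _ _ (hs b)⟩) : zpowers f × K)) ?_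
    intro a b hab'
    have h1 : φ a = φ b := congrArg Prod.fst hab'
    have h2 : ((s (φ a) : B) : G)⁻¹ * a = ((s (φ b) : B) : G)⁻¹ * b :=
      congrArg (fun x : zpowers f × K => (x.2 : G)) hab'
    rw [h1] at h2
    exact Subtype.ext (mul_left_cancel h2)
  have h1 : Nat.card K ≤ 5 := by
    rw [← hfcard]
    exact Nat.le_of_dvd Nat.card_pos (Subgroup.card_dvd_of_le hKZ)
  have h2 := Nat.le_of_dvd Nat.card_pos h4
  rw [hfcard] at hle
  omega

/-- an abelian subgroup of order `5 ^ 5` does not exist in groups of Lyons type -/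
theorem no_abelian_five {L : LyType G} {f : G} (hf : Five L f) (h7 : ¬ 5 ^ 7 ∣ Nat.card G) (A : Subgroup G)
    (hA : Nat.card A = 5 ^ 5) (hab : ∀ a ∈ A, ∀ b ∈ A, a * b = b * a) : False := by
  have hE := H799.PB.extra hf
  have hin := LyFiveSix.fiveIn hf hE.card
  have h5 : Fact (Nat.Prime 5) := ⟨Nat.prime_five⟩
  obtain ⟨g, hg⟩ := H204.Ore.LyFive.exists_conj_mem hf h7 (B := A) (IsPGroup.of_card hA) (by rw [hA]; exact pow_dvd_pow 5 (by norm_num))
  set A' : Subgroup G := A.map (MulAut.conj g⁻¹).toMonoidHom with hA'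
  have hA'c : Nat.card A' = 5 ^ 5 := by rw [hA', Subgroup.card_map_of_injective (MulAut.conj g⁻¹).injective, hA]
  have hfA' : f ∈ A' := ⟨g * f * g⁻¹, hg, by
    show g⁻¹ * (g * f * g⁻¹) * g⁻¹⁻¹ = f
    group⟩
  have hab' : ∀ a ∈ A', ∀ b ∈ A', a * b = b * a := by
    rintro _ ⟨a, ha, rfl⟩ _ ⟨b, hb, rfl⟩
    rw [← map_mul, ← map_mul, hab a ha b hb]
  have hAC : A' ≤ centralizer ({f} : Set G) := fun a ha => mem_centralizer_singleton_iff.2 (hab' a ha f hfA')
  have hEC : core f ≤ centralizer ({f} : Set G) := fun a ha => mem_centralizer_singleton_iff.2 (hin.cent a ha)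
  have hnorm : ∀ a ∈ A', ∀ e ∈ core f, a * e * a⁻¹ ∈ core f := by
    intro a ha e he
    refine hin.norm a ?_ e he
    rw [hab' a ha f hfA', mul_inv_cancel_right]
    exact mem_zpowers f
  have hle : A' ≤ normalizer (core f : Set G) := by
    intro a ha
    rw [mem_normalizer_iff]
    intro e
    refine ⟨fun he => hnorm a ha e he, fun he => ?_⟩
    have h1 := hnorm a⁻¹ (inv_mem ha) _ he
    have h2 : a⁻¹ * (a * e * a⁻¹) * a⁻¹⁻¹ = e := by group
    rwa [h2] at h1
  refine no_abelian (E := core f) (f := f) ?_ hE.card hE.center hE.commutator (fun a ha => hin.cent a ha) (A' ⊓ core f)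
    inf_le_right (fun a ha b hb => hab' a (mem_inf.1 ha).1 b (mem_inf.1 hb).1) ?_
  · exact hin.f5
  · -- the order of the product
    set C : Subgroup G := centralizer ({f} : Set G) with hC
    have hn : ((core f).subgroupOf C).Normal := by
      refine ⟨fun e he c => ?_⟩
      rw [mem_subgroupOf] at he ⊢
      refine hin.norm c ?_ _ he
      rw [mem_centralizer_singleton_iff.1 c.2, mul_inv_cancel_right]
      exact mem_zpowers f
    have key := H940.Eng.card_sup_mul_card_inf ((core f).subgroupOf C) (A'.subgroupOf C)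
    have h1 : Nat.card ((core f).subgroupOf C) = 5 ^ 5 := by
      rw [Nat.card_congr (subgroupOfEquivOfLe hEC).toEquiv, hE.card]
    have h2 : Nat.card (A'.subgroupOf C) = 5 ^ 5 := by
      rw [Nat.card_congr (subgroupOfEquivOfLe hAC).toEquiv, hA'c]
    have h3 : Nat.card ↥((core f).subgroupOf C ⊓ A'.subgroupOf C) = Nat.card ↥(A' ⊓ core f) := by
      have e : (core f).subgroupOf C ⊓ A'.subgroupOf C = (A' ⊓ core f).subgroupOf C := by
        ext x
        simp only [mem_inf, mem_subgroupOf]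
        exact and_comm
      rw [e]
      exact Nat.card_congr (subgroupOfEquivOfLe (inf_le_left.trans hAC)).toEquiv
    have h4 : Nat.card ↥((core f).subgroupOf C ⊔ A'.subgroupOf C) ∣ 5 ^ 5 * 720 :=
      hE.card_centralizer ▸ card_subgroup_dvd_card _
    rw [h1, h2, h3] at key
    have h5' : Nat.card ↥(A' ⊓ core f) ∣ 5 ^ 5 := hE.card ▸ Subgroup.card_dvd_of_le inf_le_right
    obtain ⟨j, hj, hj'⟩ := (Nat.dvd_prime_pow Nat.prime_five).1 h5'
    rw [hj'] at key ⊢
    apply pow_dvd_pow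
    by_contra hlt
    have h6 : 5 ^ 7 ∣ 5 ^ 5 * 720 := by
      refine dvd_trans ?_ h4
      have h7 : Nat.card ↥((core f).subgroupOf C ⊔ A'.subgroupOf C) = 5 ^ (10 - j) := by
        apply Nat.eq_of_mul_eq_mul_right (pow_pos (by norm_num : 0 < 5) j)
        rw [key, ← pow_add, ← pow_add]
        congr 1
        omega
      rw [h7]
      exact pow_dvd_pow 5 (by omega)
    revert h6
    norm_num

end gen

/-- **no subgroup of order `5 ^ 5` is normalized by a subgroup of order 11** -/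
theorem no_e5 (Q R : Subgroup Spor.Ly) (hR : Nat.card R = 11) (hQ : Nat.card Q = 5 ^ 5)
    (hRQ : R ≤ normalizer (Q : Set Spor.Ly)) : False := by
  have hfin : Finite Spor.Ly := Cfsg.Agent.Ly.Setup.finite_ly
  have h5 : Fact (Nat.Prime 5) := ⟨Nat.prime_five⟩
  have h11 : Fact (Nat.Prime 11) := ⟨by norm_num⟩
  obtain ⟨L⟩ := H513.AbLy.exists_L
  obtain ⟨f, hf⟩ := LyFiveFinal.exists_five L
  have h7 : ¬ 5 ^ 7 ∣ Nat.card Spor.Ly := by rw [Cfsg.Agent.Ly.Setup.card_ly]; norm_num
  -- a generator of `R`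
  obtain ⟨⟨y, hyR⟩, hy⟩ := exists_prime_orderOf_dvd_card' (G := R) 11 (by rw [hR])
  rw [Subgroup.orderOf_mk] at hy
  have hyN := hRQ hyR
  -- the centre of `Q`
  set Z : Subgroup Spor.Ly := (center Q).map Q.subtype with hZ
  have hZQ : Z ≤ Q := map_subtype_le _
  have hZc : ∀ z ∈ Z, ∀ q ∈ Q, z * q = q * z := by
    rintro _ ⟨z, hz, rfl⟩ q hq
    exact (congrArg Subtype.val (mem_center_iff.1 hz ⟨q, hq⟩)).symm
  have hZm : ∀ z ∈ Q, (∀ q ∈ Q, z * q = q * z) → z ∈ Z := by
    intro z hz h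
    exact ⟨⟨z, hz⟩, mem_center_iff.2 fun q => Subtype.ext (h q q.2).symm, rfl⟩
  have hZn : ∀ z ∈ Z, y * z * y⁻¹ ∈ Z := by
    intro z hz
    refine hZm _ ((mem_normalizer_iff.1 hyN z).1 (hZQ hz)) fun q hq => ?_
    have h1 : y⁻¹ * q * y ∈ Q := by
      refine (mem_normalizer_iff.1 hyN _).2 ?_
      have e : y * (y⁻¹ * q * y) * y⁻¹ = q := by group
      rw [e]
      exact hq
    have h2 := hZc z hz _ h1
    calc y * z * y⁻¹ * q = y * (z * (y⁻¹ * q * y)) * y⁻¹ := by group
      _ = y * ((y⁻¹ * q * y) * z) * y⁻¹ := by rw [h2]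
      _ = q * (y * z * y⁻¹) := by group
  have hZd : Nat.card Z ∣ 5 ^ 5 := hQ ▸ Subgroup.card_dvd_of_le hZQ
  have hmod := H513.AbLy.card_mod (G := Spor.Ly) (y := y) (p := 11) (by norm_num) hy Z hZn (by
    intro z hz hzy
    have h1 : orderOf z ∣ 5 ^ 5 := by
      have h2 : orderOf (⟨z, hz⟩ : Z) ∣ Nat.card Z := orderOf_dvd_natCard _
      rw [Subgroup.orderOf_mk] at h2
      exact h2.trans hZd
    have h2 : orderOf z ∣ 66 := by
      have h3 : z ∈ centralizer ({y} : Set Spor.Ly) := mem_centralizer_singleton_iff.2 hzy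
      have h4 : orderOf (⟨z, h3⟩ : centralizer ({y} : Set Spor.Ly)) ∣ Nat.card (centralizer ({y} : Set Spor.Ly)) :=
        orderOf_dvd_natCard _
      rwa [Subgroup.orderOf_mk, H511.Ore.Ly.card11 hy] at h4
    have h3 := Nat.dvd_gcd h1 h2
    rw [show Nat.gcd (5 ^ 5) 66 = 1 by norm_num] at h3
    exact orderOf_eq_one_iff.1 (Nat.dvd_one.1 h3))
  have hZ1 : Nat.card Z ≠ 1 := by
    have hp : IsPGroup 5 Q := IsPGroup.of_card hQ
    have : Nontrivial Q := Finite.one_lt_card_iff_nontrivial.1 (by rw [hQ]; norm_num)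
    have h1 := hp.center_nontrivial
    rw [hZ, Subgroup.card_map_of_injective Q.subtype_injective]
    exact (Finite.one_lt_card_iff_nontrivial.2 h1).ne'
  obtain ⟨i, hi, hi'⟩ := (Nat.dvd_prime_pow Nat.prime_five).1 hZd
  rw [hi'] at hmod hZ1
  have hi5 : i = 5 := by
    interval_cases i
    · exact absurd rfl hZ1
    all_goals first | rfl | (norm_num at hmod)
  have hZeq : Z = Q := Subgroup.eq_of_le_of_card_ge hZQ (by rw [hQ, hi', hi5])
  exact no_abelian_five hf h7 Q hQ fun a ha b hb => hZc a (hZeq ▸ ha) b hb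

end Cfsg.Agent.H755.S8.Ly
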