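import Cfsg.Agent.H755.S8.StructV
import Cfsg.Agent.H755.S8.LyE
import Cfsg.Agent.H4.Gen.LyLoc
import Cfsg.Agent.H438.Fpr.LyC
import Cfsg.Agent.H772.S8.Tool

/-!
# S4908, the row FROB of the Lyons group (helper755)
-/

set_option autoImplicit false
set_option maxRecDepth 100000

namespace Cfsg.Agent.H755.S8.Ly

open Subgroup Cfsg Cfsg.Agent.OrdDiv Cfsg.Agent.H940 Cfsg.Agent.H940.Eng Cfsg.Agent.H940.Eng.D Cfsg.Agent.H704.S8
open Cfsg.Agent.H4.Gen.LyLoc (ctx0 hna data67 data37 data31 card)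

universe v

/-- the local data -/
def lc : List LD := [⟨67, 67, [(2, 1), (11, 1), (67, 1)]⟩, ⟨37, 111, [(2, 1), (3, 2), (37, 1)]⟩,
  ⟨31, 31, [(2, 1), (3, 1), (31, 1)]⟩, ⟨11, 66, [(2, 1), (3, 1), (5, 1), (11, 1)]⟩, ⟨7, 168, [(2, 4), (3, 2), (7, 1)]⟩]

theorem ctx (B : Base) : Ctx Spor.Ly l_ly n_ly o_ly lc where
  fin := (ctx0 B).fin
  simple := (ctx0 B).simple
  card := card
  val := v_ly
  nodup := nd_ly
  ords := ords_ly B
  loc := by
    intro ld hld
    simp only [lc, List.mem_cons, List.not_mem_nil, or_false] at hld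
    rcases hld with rfl | rfl | rfl | rfl | rfl
    · refine loc_of_eq card (by decide +kernel) (by decide +kernel) (by decide +kernel) fun R hR => ?_
      rw [(data67 B hR).1, (data67 B hR).2]
      decide +kernel
    · refine loc_of_eq card (by decide +kernel) (by decide +kernel) (by decide +kernel) fun R hR => ⟨(data37 B hR).1, ?_⟩
      rw [(data37 B hR).2]
      decide +kernel
    · refine loc_of_eq card (by decide +kernel) (by decide +kernel) (by decide +kernel) fun R hR => ?_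
      rw [(data31 hR).1, (data31 hR).2]
      decide +kernel
    · refine loc_of_eq card (by decide +kernel) (by decide +kernel) (by decide +kernel) fun R hR =>
        ⟨(Cfsg.Agent.H438.Fpr.Ly.cn11 hR).1, ?_⟩
      rw [(Cfsg.Agent.H438.Fpr.Ly.cn11 hR).2]
      decide +kernel
    · refine loc_of_eq card (by decide +kernel) (by decide +kernel) (by decide +kernel) fun R hR => ?_
      rw [(Cfsg.Agent.H438.Fpr.Ly.cn7 B hR).1, (Cfsg.Agent.H438.Fpr.Ly.cn7 B hR).2]
      decide +kernel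

theorem chk67 : chkV l_ly n_ly 67 ⟨67, 67, [(2, 1), (11, 1), (67, 1)]⟩ [] (chkF 1 n_ly lc) [] 60 lc o_ly = true := by
  decide +kernel

theorem chk11 : chkV l_ly n_ly 11 ⟨11, 66, [(2, 1), (3, 1), (5, 1), (11, 1)]⟩ [(5, 5)] (chkF 1 n_ly lc) [] 60 lc o_ly =
    true := by
  decide +kernel

/-- the row of the presented group -/
theorem row_std (B : Base) (D : Set ℕ) : FrobRow 1 D Spor.Ly := by
  refine frobRow_of_engV (ctx B) (by decide) (by decide) (c := 1) (p := 67) (q := 11) (by norm_num) (by norm_num)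
    (by decide +kernel) ?_ ⟨67, 67, [(2, 1), (11, 1), (67, 1)]⟩ ⟨11, 66, [(2, 1), (3, 1), (5, 1), (11, 1)]⟩
    (by simp [lc]) (by simp [lc]) [] [(5, 5)] (by simp) ?_ 60 chk67 chk11 D
  · intro R hR
    rw [(data67 B hR).1, (data67 B hR).2]
    decide +kernel
  · intro x hx Q R hR hQ hRQ
    rw [List.mem_singleton] at hx
    subst hx
    exact no_e5 Q R hR hQ hRQ

/-- **FROB Ly** -/
theorem row (B : Base) {X : Type v} [Group X] (hX : Spor.IsoLy X) (D : Set ℕ) : FrobRow 1 D X := by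
  obtain ⟨e⟩ := hX
  exact Cfsg.Agent.H772.S8.congr e (row_std B D)

end Cfsg.Agent.H755.S8.Ly
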