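import Cfsg.Agent.H755.S8.RowHN
import Cfsg.Agent.H651.HNF.Reps

/-!
# A bound of the class number of the Harada-Norton group (helper755, S4908)

`card_conj` : `k(HN) ≤ 423424`; `card_conj_of` : `k(HN) ≤ 45485` from an element of order 25 with centralizer of order 25.
-/

set_option autoImplicit false
set_option maxRecDepth 100000

namespace Cfsg.Agent.H755.S8.HN

open Subgroup Cfsg
open Cfsg.Agent.H651.HNF (cn raw)

/-- the bounds of the centralizer orders -/
def ck (p : ℕ) : ℕ := if p = 2 then 64 else if p = 5 then 25 else if p = 7 then 420 else if p = 11 then 22 else 19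

theorem exists_ord {p : ℕ} (hp : p.Prime) (hd : p ∣ 273030912000000) : ∃ z : G, orderOf z = p := by
  have := fin
  have : Fact p.Prime := ⟨hp⟩
  exact exists_prime_orderOf_dvd_card' (G := G) p (by rw [raw.card]; exact hd)

theorem ckel {p : ℕ} (hp : p ∈ ({2, 7, 11, 19} : Finset ℕ)) :
    ∃ z : G, (∃ k : ℕ, orderOf z = p ^ k) ∧ Nat.card (centralizer ({z} : Set G)) ≤ ck p := by
  simp only [Finset.mem_insert, Finset.mem_singleton] at hp
  rcases hp with rfl | rfl | rfl | rfl
  · obtain ⟨z, h1, h2⟩ := Cfsg.Agent.H651.HNF.Reps.e8b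
    exact ⟨z, ⟨3, h1⟩, h2.le⟩
  · obtain ⟨z, hz⟩ := exists_ord (p := 7) (by norm_num) (by norm_num)
    exact ⟨z, ⟨1, by rw [hz, pow_one]⟩, (raw.r7 z hz).le⟩
  · obtain ⟨z, hz⟩ := exists_ord (p := 11) (by norm_num) (by norm_num)
    exact ⟨z, ⟨1, by rw [hz, pow_one]⟩, (raw.r11 z hz).le⟩
  · obtain ⟨z, hz⟩ := exists_ord (p := 19) (by norm_num) (by norm_num)
    exact ⟨z, ⟨1, by rw [hz, pow_one]⟩, (raw.r19 z hz).le⟩

/-- **`k(HN) ≤ 423424`** -/
theorem card_conj : Nat.card (ConjClasses G) ≤ 423424 := by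
  have := fin
  obtain ⟨q, hq⟩ := Cfsg.Agent.H651.HNF.Reps.e9
  have h := card_conj_le9 q hq {2, 7, 11, 19} (by
    intro p hp
    simp only [Finset.mem_insert, Finset.mem_singleton] at hp
    rcases hp with rfl | rfl | rfl | rfl <;> norm_num) ck (fun p hp => ckel hp)
  have h1 : Nat.card (centralizer ({q} : Set G)) = 27 := (raw.r9 q hq).2
  have h2 : Nat.card (centralizer ({q ^ 3} : Set G)) = 29160 := (raw.r9 q hq).1
  rw [h1, h2, raw.card] at h
  exact h.trans (by decide)

/-- **`k(HN) ≤ 45485`**, from an element of order 25 -/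
theorem card_conj_of (h25 : ∃ z : G, orderOf z = 25 ∧ Nat.card (centralizer ({z} : Set G)) ≤ 25) :
    Nat.card (ConjClasses G) ≤ 45485 := by
  have := fin
  obtain ⟨q, hq⟩ := Cfsg.Agent.H651.HNF.Reps.e9
  have h := card_conj_le9 q hq {5, 2, 7, 11, 19} (by
    intro p hp
    simp only [Finset.mem_insert, Finset.mem_singleton] at hp
    rcases hp with rfl | rfl | rfl | rfl | rfl <;> norm_num) ck (fun p hp => by
      rcases Finset.mem_insert.1 hp with rfl | hp
      · obtain ⟨z, h1, h2⟩ := h25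
        exact ⟨z, ⟨2, h1⟩, h2⟩
      · exact ckel hp)
  have h1 : Nat.card (centralizer ({q} : Set G)) = 27 := (raw.r9 q hq).2
  have h2 : Nat.card (centralizer ({q ^ 3} : Set G)) = 29160 := (raw.r9 q hq).1
  rw [h1, h2, raw.card] at h
  exact h.trans (by decide)

end Cfsg.Agent.H755.S8.HN
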