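import Cfsg.Agent.H755.S8.HNk
import Cfsg.Agent.H175.Ore.HNOrdFive
import Cfsg.Agent.H525.RO.HnElt

/-!
# `k(HN) ≤ 45485` (helper755, S4908)
-/

set_option autoImplicit false

namespace Cfsg.Agent.H755.S8.HN

/-- **`k(HN) ≤ 45485`** -/
theorem card_conj' : Nat.card (ConjClasses G) ≤ 45485 := by
  have := simple
  exact card_conj_of ⟨Cfsg.Agent.H525.RO.HnElt.r, Cfsg.Agent.H525.RO.HnElt.orderOf_r,
    (Cfsg.Agent.H175.Ore.HNOrdFive.card_cent Cfsg.Agent.H525.RO.HnElt.orderOf_r).le⟩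

end Cfsg.Agent.H755.S8.HN
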