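import Cfsg.Agent.H755.S8.KL
import Cfsg.Agent.S0189

/-!
# Class numbers by the centralizers of an element of order nine (helper755, S4908)

* `card_ne_zero_le` : at most `|C_T(z)|` irreducible characters of `T` do not vanish at `z`;
* `card_conj_le9` : `k(T) ≤ |C(q)| + |C(q³)| + ∑_{p ∈ s} c_p + |T| / (9 ∏ s)²`, `q` of order `9`, `s` a set of primes `≠ 3`, `c_p`
  a bound of the centralizer order of some `p`-element.
-/

set_option autoImplicit false
set_option linter.unusedSectionVars false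
set_option linter.style.haveILetI false

universe u v

namespace Cfsg.Agent.H755.S8

open Cfsg Cfsg.Agent.Characters.Core Cfsg.Agent.H686.CharKit
open Cfsg.Agent.OddOrderCharacters.VChar
open scoped ComplexConjugate

variable {T : Type u} [Group T] [Finite T]

/-- Galois conjugates of zeros -/
theorem pow_ne_zero_of {m : ℕ} (hm : m.Coprime (Nat.card T)) (χ : IrrCharacter T) {g : T}
    (h : (χ : T → ℂ) g ≠ 0) : (χ : T → ℂ) (g ^ m) ≠ 0 := by
  obtain ⟨σ, hσ⟩ := Cfsg.Agent.OddOrderCharacters.PF13.SumBound.gen_exists_ringEquiv (G := T) hm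
  rw [← hσ _ (gen_of_irr χ.2) g]
  exact (map_ne_zero_iff σ σ.injective).2 h

/-- the irreducible characters not vanishing at `z` -/
theorem card_ne_zero_le (z : T) [Fintype (IrrCharacter T)]
    [DecidablePred fun χ : IrrCharacter T => (χ : T → ℂ) z ≠ 0] :
    (Finset.univ.filter fun χ : IrrCharacter T => (χ : T → ℂ) z ≠ 0).card ≤
      Nat.card (Subgroup.centralizer ({z} : Set T)) := by
  classical
  have := Fintype.ofFinite T
  let X : Finset T := Finset.univ.filter fun g => ∃ m : ℕ, m.Coprime (Nat.card T) ∧ g = z ^ m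
  have hXz : ∀ g ∈ X, ∃ m : ℕ, m.Coprime (Nat.card T) ∧ g = z ^ m := fun g hg => (Finset.mem_filter.1 hg).2
  have hX : ∀ g ∈ X, ∀ m : ℕ, m.Coprime (Nat.card T) → g ^ m ∈ X := by
    intro g hg m hm
    obtain ⟨k, hk, rfl⟩ := hXz g hg
    exact Finset.mem_filter.2 ⟨Finset.mem_univ _, k * m, hk.mul_left hm, (pow_mul z k m).symm⟩
  have hne : X.Nonempty := ⟨z, Finset.mem_filter.2 ⟨Finset.mem_univ _, 1, Nat.coprime_one_left _, (pow_one z).symm⟩⟩
  have h1 : ∀ χ ∈ (Finset.univ.filter fun χ : IrrCharacter T => (χ : T → ℂ) z ≠ 0),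
      (X.card : ℝ) ≤ ∑ g ∈ X, ‖(χ : T → ℂ) g‖ ^ 2 := by
    intro χ hχ
    have hχ' := (Finset.mem_filter.1 hχ).2
    have h := Cfsg.Agent.OddOrderCharacters.PF13.SumBound.card_le_sum_sq (G := T) ({χ} : Finset (IrrCharacter T))
      (fun χ => (χ : T → ℂ)) (fun i _ => gen_of_irr i.2) X hX ?_
    · simpa using h
    · intro g hg
      refine ⟨χ, Finset.mem_singleton_self χ, ?_⟩
      obtain ⟨m, hm, rfl⟩ := hXz g hg
      exact pow_ne_zero_of hm χ hχ'
  have h2 := Finset.sum_le_sum h1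
  rw [Finset.sum_const, nsmul_eq_mul, Finset.sum_comm] at h2
  have h3 : ∀ g ∈ X, ∑ χ ∈ (Finset.univ.filter fun χ : IrrCharacter T => (χ : T → ℂ) z ≠ 0),
      ‖(χ : T → ℂ) g‖ ^ 2 ≤ (Nat.card (Subgroup.centralizer ({z} : Set T)) : ℝ) := by
    intro g hg
    obtain ⟨m, hm, rfl⟩ := hXz g hg
    have h4 := sum_normSq (G := T) (z ^ m)
    rw [cent_pow hm] at h4
    rw [← h4]
    refine (Finset.sum_le_sum_of_subset_of_nonneg (Finset.subset_univ _) fun _ _ _ => by positivity).trans_eq ?_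
    exact Finset.sum_congr rfl fun χ _ => (Complex.normSq_eq_norm_sq _).symm
  have h5 := h2.trans (Finset.sum_le_sum h3)
  rw [Finset.sum_const, nsmul_eq_mul, mul_comm] at h5
  have h6 : (0 : ℝ) < X.card := by exact_mod_cast hne.card_pos
  exact_mod_cast le_of_mul_le_mul_left h5 h6

theorem exists_coprime_modEq {m N i : ℕ} (hN : N ≠ 0) (h : m ∣ N) (hi : i.Coprime m) :
    ∃ k : ℕ, k.Coprime N ∧ k ≡ i [MOD m] := by
  have : NeZero N := ⟨hN⟩
  obtain ⟨u, hu⟩ := ZMod.unitsMap_surjective h (ZMod.unitOfCoprime i hi)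
  refine ⟨(u : ZMod N).val, ZMod.val_coe_unit_coprime u, ?_⟩
  rw [← ZMod.natCast_eq_natCast_iff, ZMod.natCast_val, ← ZMod.unitsMap_val h, hu, ZMod.coe_unitOfCoprime]

/-- values at the powers prime to the order -/
theorem eq_zero_pow {z : T} {i : ℕ} (hi : i.Coprime (orderOf z)) (χ : IrrCharacter T) (h : (χ : T → ℂ) z = 0) :
    (χ : T → ℂ) (z ^ i) = 0 := by
  obtain ⟨k, hk, hki⟩ := exists_coprime_modEq Nat.card_pos.ne' (orderOf_dvd_natCard z) hi
  have h1 : z ^ i = z ^ k := pow_eq_pow_iff_modEq.2 hki.symm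
  rw [h1]
  obtain ⟨σ, hσ⟩ := Cfsg.Agent.OddOrderCharacters.PF13.SumBound.gen_exists_ringEquiv (G := T) hk
  rw [← hσ _ (gen_of_irr χ.2) z, h, map_zero]

/-- a character vanishing at `q` and `q ^ 3`, `q` of order nine, has degree divisible by `9` -/
theorem nine_dvd {q : T} (hq : orderOf q = 9) (χ : IrrCharacter T) (h1 : (χ : T → ℂ) q = 0)
    (h3 : (χ : T → ℂ) (q ^ 3) = 0) : 9 ∣ charDegree (χ : T → ℂ) := by
  have hq3 : orderOf (q ^ 3) = 3 := by
    rw [orderOf_pow' q (by norm_num), hq]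
    rfl
  obtain ⟨k, hk⟩ := Cfsg.Agent.S0189.card_dvd_degree_of_vanishing (Subgroup.zpowers q) (χ : T → ℂ)
    (isIrr_isCharacter χ.2) (by
      intro g hg hg1
      classical
      obtain ⟨i, hi, rfl⟩ := Finset.mem_image.1 (mem_zpowers_iff_mem_range_orderOf.1 hg)
      rw [Finset.mem_range, hq] at hi
      interval_cases i
      · exact absurd (pow_zero q) hg1
      · exact eq_zero_pow (by rw [hq]; decide) χ h1
      · exact eq_zero_pow (by rw [hq]; decide) χ h1
      · exact h3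
      · exact eq_zero_pow (by rw [hq]; decide) χ h1
      · exact eq_zero_pow (by rw [hq]; decide) χ h1
      · have h4 := eq_zero_pow (z := q ^ 3) (i := 2) (by rw [hq3]; decide) χ h3
        rw [← pow_mul] at h4
        exact h4
      · exact eq_zero_pow (by rw [hq]; decide) χ h1
      · exact eq_zero_pow (by rw [hq]; decide) χ h1)
  rw [Nat.card_zpowers, hq] at hk
  refine ⟨k, ?_⟩
  have h5 := charDegree_irr χ
  rw [hk] at h5
  exact_mod_cast h5

/-- **the class number, with an element of order nine** -/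
theorem card_conj_le9 (q : T) (hq : orderOf q = 9) (s : Finset ℕ) (hs : ∀ p ∈ s, p.Prime ∧ p ≠ 3) (c : ℕ → ℕ)
    (hc : ∀ p ∈ s, ∃ z : T, (∃ k : ℕ, orderOf z = p ^ k) ∧ Nat.card (Subgroup.centralizer ({z} : Set T)) ≤ c p) :
    Nat.card (ConjClasses T) ≤ Nat.card (Subgroup.centralizer ({q} : Set T)) +
      Nat.card (Subgroup.centralizer ({q ^ 3} : Set T)) + ∑ p ∈ s, c p + Nat.card T / (9 * ∏ p ∈ s, p) ^ 2 := by
  classical
  have := finite_irr (G := T)
  have := Fintype.ofFinite (IrrCharacter T)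
  rw [← card_irr, Nat.card_eq_fintype_card]
  set A := s.biUnion fun p => Finset.univ.filter fun χ : IrrCharacter T => ¬ p ∣ charDegree (χ : T → ℂ) with hA
  set B1 := Finset.univ.filter fun χ : IrrCharacter T => (χ : T → ℂ) q ≠ 0 with hB1
  set B2 := Finset.univ.filter fun χ : IrrCharacter T => (χ : T → ℂ) (q ^ 3) ≠ 0 with hB2
  have h1 : A.card ≤ ∑ p ∈ s, c p := by
    refine Finset.card_biUnion_le.trans (Finset.sum_le_sum fun p hp => ?_)
    obtain ⟨z, ⟨k, hz⟩, hz'⟩ := hc p hp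
    refine le_trans (Finset.card_le_card ?_) ((card_ne_zero_le z).trans hz')
    intro χ hχ
    have hχ' := (Finset.mem_filter.1 hχ).2
    have : Fact p.Prime := ⟨(hs p hp).1⟩
    obtain ⟨M, hM⟩ := Cfsg.Agent.Blocks.Knorr.exists_isPModular p
    exact Finset.mem_filter.2 ⟨Finset.mem_univ _, Cfsg.Agent.H703.K6.apply_ne_zero hM χ hχ' ⟨k, hz⟩⟩
  have hb1 : B1.card ≤ Nat.card (Subgroup.centralizer ({q} : Set T)) := card_ne_zero_le q
  have hb2 : B2.card ≤ Nat.card (Subgroup.centralizer ({q ^ 3} : Set T)) := card_ne_zero_le (q ^ 3)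
  set U := B1 ∪ B2 ∪ A with hU
  have hUc : U.card ≤ Nat.card (Subgroup.centralizer ({q} : Set T)) +
      Nat.card (Subgroup.centralizer ({q ^ 3} : Set T)) + ∑ p ∈ s, c p :=
    (Finset.card_union_le _ _).trans (Nat.add_le_add ((Finset.card_union_le _ _).trans (Nat.add_le_add hb1 hb2)) h1)
  have hpos : 0 < (9 * ∏ p ∈ s, p) ^ 2 :=
    pow_pos (Nat.mul_pos (by norm_num) (Finset.prod_pos fun p hp => (hs p hp).1.pos)) 2
  have h2 : Uᶜ.card ≤ Nat.card T / (9 * ∏ p ∈ s, p) ^ 2 := by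
    rw [Nat.le_div_iff_mul_le hpos, ← sum_deg_sq (G := T), ← smul_eq_mul, ← Finset.sum_const]
    refine (Finset.sum_le_sum fun χ hχ => ?_).trans (Finset.sum_le_sum_of_subset (Finset.subset_univ Uᶜ))
    refine Nat.pow_le_pow_left (Nat.le_of_dvd (charDegree_pos χ) ?_) 2
    have hχ' := Finset.mem_compl.1 hχ
    rw [hU, Finset.mem_union, Finset.mem_union, not_or, not_or] at hχ'
    obtain ⟨⟨g1, g2⟩, g3⟩ := hχ'
    have e1 : (χ : T → ℂ) q = 0 := by
      by_contra hcon
      exact g1 (Finset.mem_filter.2 ⟨Finset.mem_univ _, hcon⟩)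
    have e2 : (χ : T → ℂ) (q ^ 3) = 0 := by
      by_contra hcon
      exact g2 (Finset.mem_filter.2 ⟨Finset.mem_univ _, hcon⟩)
    refine Nat.Coprime.mul_dvd_of_dvd_of_dvd ?_ (nine_dvd hq χ e1 e2)
      (Finset.prod_primes_dvd _ (fun p hp => (hs p hp).1.prime) fun p hp => ?_)
    · refine Nat.Coprime.prod_right fun p hp => ?_
      rw [show (9 : ℕ) = 3 ^ 2 by norm_num]
      exact Nat.Coprime.pow_left 2 ((Nat.coprime_primes Nat.prime_three (hs p hp).1).2 (hs p hp).2.symm)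
    · by_contra hcon
      exact g3 (Finset.mem_biUnion.2 ⟨p, hp, Finset.mem_filter.2 ⟨Finset.mem_univ _, hcon⟩⟩)
  rw [← Finset.card_add_card_compl U]
  exact Nat.add_le_add hUc h2

end Cfsg.Agent.H755.S8
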