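import Cfsg.Agent.H755.S8.FrobEng
import Cfsg.Agent.H755.S8.KL9
import Cfsg.Agent.H438.Fpr.HNA
import Cfsg.Agent.H651.HNF.Main
import Cfsg.Agent.H388.HNF.Defs
import Cfsg.Agent.H50.S8.FrobOf
import Cfsg.Agent.H772.S8.Tool
import Cfsg.Agent.H940.EngLoc

/-!
# S4908, the row FROB of the Harada-Norton group (helper755; plan of helper388)

`P : Q = 19 : 9`.  A subgroup `T` of order divisible by `19` is dealt with by the order engine; a subgroup with an element `q` of
order nine satisfies `k(T) ≤ 27 + 29160 + ∑ c_p + |T| / (9 ∏ p)²` (`KL9`), so the bounds `Bd T` of helper388 are enough.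
-/

set_option autoImplicit false
set_option maxRecDepth 100000

namespace Cfsg.Agent.H755.S8.HN

open Subgroup Cfsg Cfsg.Agent.OrdDiv Cfsg.Agent.H940 Cfsg.Agent.H940.Eng Cfsg.Agent.H940.Eng.D Cfsg.Agent.H704.S8
open Cfsg.Agent.H651.HNF (cn raw)
open Cfsg.Agent.H388.HNF (Bd Fit)

universe v

abbrev G : Type := Cfsg.Spor.HN

theorem card : Nat.card G = n_hn := raw.card

theorem fin : Finite G := Nat.finite_of_card_ne_zero (by rw [card]; decide +kernel)

theorem simple : IsSimpleGroup G := Cfsg.Agent.S1701.result.1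

/-! ### the class number -/

theorem cT_dvd {T : Subgroup G} (x : T) : Nat.card (centralizer ({x} : Set T)) ∣ cn (x : G) := by
  let f : centralizer ({x} : Set T) →* centralizer ({(x : G)} : Set G) :=
    (T.subtype.comp (centralizer ({x} : Set T)).subtype).codRestrict (centralizer ({(x : G)} : Set G)) (fun y => by
      rw [mem_centralizer_singleton_iff]
      exact congrArg Subtype.val (mem_centralizer_singleton_iff.1 y.2))
  have hf : Function.Injective f := fun a b h => Subtype.ext (Subtype.ext (congrArg (fun w : centralizer ({(x : G)} : Set G) => (w : G)) h))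
  exact card_dvd_of_injective f hf

theorem cT_le {T : Subgroup G} (x : T) : Nat.card (centralizer ({x} : Set T)) ≤ cn (x : G) := by
  have := fin
  exact Nat.le_of_dvd Nat.card_pos (cT_dvd x)

theorem kT {T : Subgroup G} {q : G} (hq : q ∈ T) (h9 : orderOf q = 9) {c3 : ℕ}
    (hc3 : Nat.card (centralizer ({(⟨q, hq⟩ : T) ^ 3} : Set T)) ≤ c3) (s : Finset ℕ)
    (hs : ∀ p ∈ s, p.Prime ∧ p ≠ 3) (c : ℕ → ℕ) (hc : ∀ p ∈ s, ∃ z ∈ T, (∃ k : ℕ, orderOf z = p ^ k) ∧ cn z ≤ c p) :
    Nat.card (ConjClasses T) ≤ 27 + c3 + ∑ p ∈ s, c p + Nat.card T / (9 * ∏ p ∈ s, p) ^ 2 := by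
  have := fin
  refine (card_conj_le9 (⟨q, hq⟩ : T) (by rw [Subgroup.orderOf_mk, h9]) s hs c ?_).trans ?_
  · intro p hp
    obtain ⟨z, hz, ⟨k, hk⟩, hz2⟩ := hc p hp
    exact ⟨⟨z, hz⟩, ⟨k, by rw [Subgroup.orderOf_mk, hk]⟩, (cT_le _).trans hz2⟩
  · have h1 : Nat.card (centralizer ({(⟨q, hq⟩ : T)} : Set T)) ≤ 27 := (cT_le _).trans (raw.r9 q h9).2.le
    exact Nat.add_le_add_right (Nat.add_le_add_right (Nat.add_le_add h1 hc3) _) _

theorem c3_le {T : Subgroup G} {q : G} (hq : q ∈ T) (h9 : orderOf q = 9) :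
    Nat.card (centralizer ({(⟨q, hq⟩ : T) ^ 3} : Set T)) ≤ 29160 :=
  (cT_le _).trans (raw.r9 q h9).1.le

theorem c3_le' {T : Subgroup G} {q : G} (hq : q ∈ T) (h9 : orderOf q = 9) (h : ¬ 3 ^ 6 ∣ Nat.card T) :
    Nat.card (centralizer ({(⟨q, hq⟩ : T) ^ 3} : Set T)) ≤ 9720 := by
  have h1 : Nat.card (centralizer ({(⟨q, hq⟩ : T) ^ 3} : Set T)) ∣ 29160 := by
    rw [← (raw.r9 q h9).1]
    exact cT_dvd _
  have h2 : ¬ 729 ∣ Nat.card (centralizer ({(⟨q, hq⟩ : T) ^ 3} : Set T)) := fun h3 =>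
    h ((show 3 ^ 6 = 729 by norm_num) ▸ h3.trans (card_subgroup_dvd_card _))
  obtain ⟨e, he⟩ := h1
  generalize Nat.card (centralizer ({(⟨q, hq⟩ : T) ^ 3} : Set T)) = c at h2 he ⊢
  by_contra hcon
  push Not at hcon
  have h3 : e < 3 := by
    by_contra h4
    push Not at h4
    have := Nat.mul_le_mul hcon.le h4
    have h5 : 9721 * 3 ≤ c * e := Nat.mul_le_mul hcon h4
    omega
  interval_cases e
  · omega
  · exact h2 ⟨40, by omega⟩
  · exact h2 ⟨20, by omega⟩

theorem fin_of {t k a m : ℕ} (B : ℕ) (hk : k ≤ a + t / m) (ht : t ≤ B) (h : 2 * (B * (a + B / m)) ≤ 273030912000000) :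
    2 * (t * k) ≤ 273030912000000 :=
  (Nat.mul_le_mul_left 2 (Nat.mul_le_mul ht (hk.trans (Nat.add_le_add_left (Nat.div_le_div_right ht) _)))).trans h

theorem el7 {T : Subgroup G} (h : 7 ∣ Nat.card T) : ∃ z ∈ T, (∃ k : ℕ, orderOf z = 7 ^ k) ∧ cn z ≤ 420 := by
  have := fin
  have : Fact (Nat.Prime 7) := ⟨by norm_num⟩
  obtain ⟨z, hz⟩ := exists_prime_orderOf_dvd_card' (G := T) 7 h
  have hz' : orderOf (z : G) = 7 := by rw [Subgroup.orderOf_coe, hz]
  exact ⟨z, z.2, ⟨1, by rw [hz', pow_one]⟩, (raw.r7 _ hz').le⟩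

theorem el11 {T : Subgroup G} (h : 11 ∣ Nat.card T) : ∃ z ∈ T, (∃ k : ℕ, orderOf z = 11 ^ k) ∧ cn z ≤ 22 := by
  have := fin
  have : Fact (Nat.Prime 11) := ⟨by norm_num⟩
  obtain ⟨z, hz⟩ := exists_prime_orderOf_dvd_card' (G := T) 11 h
  have hz' : orderOf (z : G) = 11 := by rw [Subgroup.orderOf_coe, hz]
  exact ⟨z, z.2, ⟨1, by rw [hz', pow_one]⟩, (raw.r11 _ hz').le⟩

theorem el4 {z : G} (h : orderOf z = 4) : cn z ≤ 15360 := by
  rcases raw.r4 z h with h1 | h1 | h1 <;> omega

/-- the function of the bounds -/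
def cc (p : ℕ) : ℕ := if p = 7 then 420 else if p = 11 then 22 else 15360

/-- **the size condition is enough** -/
theorem of_bd {T : Subgroup G} {q : G} (hq : q ∈ T) (h9 : orderOf q = 9) (h : Bd T) :
    2 * (Nat.card T * Nat.card (ConjClasses T)) ≤ 273030912000000 := by
  rcases h with h | ⟨h7, h⟩ | ⟨h7, h, z, hz, hz4⟩ | ⟨h11, h⟩ | ⟨h77, h⟩ | ⟨h7, h3, h⟩
  · have h1 := kT hq h9 (c3_le hq h9) ∅ (by simp) cc (by simp)
    exact fin_of _ h1 h (by decide)
  · have h1 := kT hq h9 (c3_le hq h9) {7} (by intro p hp; rw [Finset.mem_singleton] at hp; subst hp; norm_num) cc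
      (by intro p hp; rw [Finset.mem_singleton] at hp; subst hp; exact el7 h7)
    rw [Finset.sum_singleton, Finset.prod_singleton] at h1
    exact fin_of _ h1 h (by decide)
  · have h1 := kT hq h9 (c3_le hq h9) {7, 2} (by
        intro p hp
        rw [Finset.mem_insert, Finset.mem_singleton] at hp
        rcases hp with rfl | rfl <;> norm_num) cc
      (by
        intro p hp
        rw [Finset.mem_insert, Finset.mem_singleton] at hp
        rcases hp with rfl | rfl
        · exact el7 h7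
        · exact ⟨z, hz, ⟨2, hz4⟩, el4 hz4⟩)
    rw [Finset.sum_insert (by decide), Finset.sum_singleton, Finset.prod_insert (by decide), Finset.prod_singleton] at h1
    exact fin_of _ h1 h (by decide)
  · have h1 := kT hq h9 (c3_le hq h9) {11} (by intro p hp; rw [Finset.mem_singleton] at hp; subst hp; norm_num) cc
      (by intro p hp; rw [Finset.mem_singleton] at hp; subst hp; exact el11 h11)
    rw [Finset.sum_singleton, Finset.prod_singleton] at h1
    exact fin_of _ h1 h (by decide)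
  · have h1 := kT hq h9 (c3_le hq h9) {7, 11} (by
        intro p hp
        rw [Finset.mem_insert, Finset.mem_singleton] at hp
        rcases hp with rfl | rfl <;> norm_num) cc
      (by
        intro p hp
        rw [Finset.mem_insert, Finset.mem_singleton] at hp
        rcases hp with rfl | rfl
        · exact el7 ((show 7 ∣ 77 by norm_num).trans h77)
        · exact el11 ((show 11 ∣ 77 by norm_num).trans h77))
    rw [Finset.sum_insert (by decide), Finset.sum_singleton, Finset.prod_insert (by decide), Finset.prod_singleton] at h1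
    exact fin_of _ h1 h (by decide)
  · have h1 := kT hq h9 (c3_le' hq h9 h3) {7} (by intro p hp; rw [Finset.mem_singleton] at hp; subst hp; norm_num) cc
      (by intro p hp; rw [Finset.mem_singleton] at hp; subst hp; exact el7 h7)
    rw [Finset.sum_singleton, Finset.prod_singleton] at h1
    exact fin_of _ h1 h (by decide)

/-! ### the order engine at 19 -/

/-- the local data -/
def lc : List LD := [⟨19, 19, [(3, 2), (19, 1)]⟩, ⟨11, 22, [(2, 2), (5, 1), (11, 1)]⟩, ⟨7, 420, [(2, 3), (3, 2), (5, 1), (7, 1)]⟩]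

theorem ctx (B : Base) : Ctx G l_hn n_hn o_hn lc where
  fin := fin
  simple := simple
  card := card
  val := v_hn
  nodup := nd_hn
  ords := ords_hn B
  loc := by
    intro ld hld
    simp only [lc, List.mem_cons, List.not_mem_nil, or_false] at hld
    rcases hld with rfl | rfl | rfl
    · refine loc_of_eq card (by decide +kernel) (by decide +kernel) (by decide +kernel) fun R hR => ?_
      rw [(Cfsg.Agent.H438.Fpr.HN.cn19 hR).1, (Cfsg.Agent.H438.Fpr.HN.cn19 hR).2]
      decide +kernel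
    · refine loc_of_eq card (by decide +kernel) (by decide +kernel) (by decide +kernel) fun R hR => ?_
      rw [(Cfsg.Agent.H438.Fpr.HN.cn11 hR).1, (Cfsg.Agent.H438.Fpr.HN.cn11 hR).2]
      decide +kernel
    · refine loc_of_eq card (by decide +kernel) (by decide +kernel) (by decide +kernel) fun R hR => ?_
      rw [(Cfsg.Agent.H438.Fpr.HN.cn7 hR).1, (Cfsg.Agent.H438.Fpr.HN.cn7 hR).2]
      decide +kernel

theorem chk19 : chkP l_hn n_hn 19 ⟨19, 19, [(3, 2), (19, 1)]⟩ (chkF 2 n_hn lc) [] 60 lc o_hn = true := by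
  decide +kernel

theorem of_19 (B : Base) {T : Subgroup G} (hT : T ≠ ⊤) (h19 : 19 ∣ Nat.card T) :
    2 * (Nat.card T * Nat.card (ConjClasses T)) ≤ n_hn := by
  have := fin
  exact le_of_chkF (ctx B).loc (by decide) (by decide) T
    (ordersP (ctx B) ⟨19, 19, [(3, 2), (19, 1)]⟩ (by simp [lc]) _ [] 60 chk19 h19 (by simp) hT)

/-! ### the row -/

/-- the row of the presented group, from the two inputs -/
theorem row_of (B : Base)
    (hAB : ∀ (T : Subgroup G) (q : G), q ∈ T → orderOf q = 9 → ¬ 19 ∣ Nat.card T → ¬ Fit T → Bd T)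
    (hN4 : ∀ (T : Subgroup G) (q : G), q ∈ T → orderOf q = 9 → ¬ 19 ∣ Nat.card T → Fit T → Bd T)
    (D : Set ℕ) : FrobRow 2 D G := by
  have := fin
  obtain ⟨y, hy⟩ := Cfsg.Agent.H315.PwHN.exists19
  have hP : Nat.card (zpowers y : Subgroup G) = 19 := by rw [Nat.card_zpowers, hy]
  obtain ⟨hC, hN⟩ := Cfsg.Agent.H438.Fpr.HN.cn19 hP
  refine Cfsg.Agent.H50.S8.frobRow_of_norm (p := 19) (q := 9) (by norm_num) (by norm_num) (by norm_num) (zpowers y) hP
    ?_ (by rw [hN]) ?_
  · intro g hg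
    have h1 : (zpowers y : Subgroup G) ≤ centralizer ((zpowers y : Subgroup G) : Set G) := by
      rw [Subgroup.le_centralizer_iff_isMulCommutative]
      infer_instance
    have h2 := Subgroup.eq_of_le_of_card_ge h1 (by rw [hC, hP])
    rw [h2, mem_centralizer_iff]
    exact fun u hu => (hg u hu).symm
  · intro T hT hor _
    rw [card]
    by_cases h19 : 19 ∣ Nat.card T
    · exact of_19 B hT h19
    · rcases hor with h | ⟨Q, hQT, hQc, hQ⟩
      · exact absurd h h19
      · obtain ⟨q, hq⟩ := hQc.exists_generator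
        have h9 : orderOf (q : G) = 9 := by
          rw [Subgroup.orderOf_coe, orderOf_eq_card_of_forall_mem_zpowers hq, hQ]
        have hqT : (q : G) ∈ T := hQT q.2
        by_cases hF : Fit T
        · exact of_bd hqT h9 (hN4 T q hqT h9 h19 hF)
        · exact of_bd hqT h9 (hAB T q hqT h9 h19 hF)

/-- **FROB HN**, from the two inputs -/
theorem row_iso (B : Base)
    (hAB : ∀ (T : Subgroup G) (q : G), q ∈ T → orderOf q = 9 → ¬ 19 ∣ Nat.card T → ¬ Fit T → Bd T)
    (hN4 : ∀ (T : Subgroup G) (q : G), q ∈ T → orderOf q = 9 → ¬ 19 ∣ Nat.card T → Fit T → Bd T)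
    {X : Type v} [Group X] (hX : Spor.IsoHN X) (D : Set ℕ) : FrobRow 2 D X := by
  obtain ⟨e⟩ := hX
  exact Cfsg.Agent.H772.S8.congr e (row_of B hAB hN4 D)

end Cfsg.Agent.H755.S8.HN
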