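import Cfsg.Agent.H755.S8.FrobEng

/-!
# The order engine with forbidden invariant `p`-subgroups (helper755, S4908)

Copies of `struct`, `struct_sub` of helper940 with the additional information: for every prime `p` some `R`-invariant
`p`-subgroup has the order of the `p`-part of `k` (`k` the order of the largest normal `r'`-subgroup).

* `chkV`, `ordersV`, `frobRow_of_engV` : the engine where the exponents `(p, a)` of the list `vt` are not allowed, because
  no subgroup of order `p ^ a` is normalized by a subgroup of order `r`.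
-/

set_option autoImplicit false
set_option linter.unusedSectionVars false
set_option linter.style.haveILetI false

namespace Cfsg.Agent.H755.S8

open Subgroup Cfsg Cfsg.Agent.OrdDiv Cfsg.Agent.H940 Cfsg.Agent.H940.Eng Cfsg.Agent.H704.S8

universe u v

/-- **the structure at a prime dividing the order once** -/
theorem structQ {X : Type u} [Group X] [Finite X] {r : ℕ} (hr : r.Prime) (h2 : ¬ r ^ 2 ∣ Nat.card X)
    (R : Subgroup X) (hR : Nat.card R = r) :
    ∃ k c s ν t : ℕ, Nat.card X = k * s * t ∧ Nat.card (normalizer (R : Set X)) = c * ν * t ∧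
      c ∣ Nat.card (centralizer (R : Set X)) ∧ c ∣ k ∧ ¬ r ∣ k ∧ r ∣ ν ∧ ν ∣ s ∧ s / ν ≡ 1 [MOD r] ∧
      (∀ p : ℕ, p.Prime → ∃ j : ℕ, p ^ j ∣ c ∧ p ^ (k.factorization p) ≡ p ^ j [MOD r]) ∧
      (s = r ∨ ∃ (S : Type u) (_ : Group S) (_ : Finite S), IsSimpleGroup S ∧ (¬ ∀ a b : S, a * b = b * a) ∧
        Nat.card S = s) ∧
      (∀ p : ℕ, p.Prime → ∃ Q : Subgroup X, Nat.card Q = p ^ (k.factorization p) ∧ R ≤ normalizer (Q : Set X)) := by
  haveI := Fact.mk hr
  obtain ⟨K, ⟨hKn, hrK⟩, hKmax⟩ := exists_card_max (P := fun T : Subgroup X => T.Normal ∧ ¬ r ∣ Nat.card T)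
    ⟨⊥, inferInstance, by rw [card_bot]; exact hr.one_lt.ne' ∘ Nat.dvd_one.1⟩
  let f : X →* X ⧸ K := QuotientGroup.mk' K
  have hf : Function.Surjective f := QuotientGroup.mk'_surjective K
  have hker : f.ker = K := QuotientGroup.ker_mk' K
  have hRK : R ⊓ K = ⊥ := by
    have h3 : Nat.card ↥(R ⊓ K) ∣ r := hR ▸ card_dvd_of_le inf_le_left
    rcases (Nat.dvd_prime hr).1 h3 with h4 | h4
    · exact card_eq_one.1 h4
    · exact absurd (h4 ▸ card_dvd_of_le (inf_le_right : R ⊓ K ≤ K)) hrK
  have hmapcard : ∀ A : Subgroup X, Nat.card ↥(A.map f) * Nat.card ↥(A ⊓ K) = Nat.card A := by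
    intro A
    have h3 := card_mul_index (f.comp A.subtype).ker
    rw [index_ker] at h3
    have h4 : Nat.card (f.comp A.subtype).ker = Nat.card ↥(A ⊓ K) := by
      have h5 : (f.comp A.subtype).ker.map A.subtype = A ⊓ K := by
        ext x
        rw [mem_map, mem_inf]
        constructor
        · rintro ⟨a, ha, rfl⟩
          refine ⟨a.2, ?_⟩
          rw [← hker, MonoidHom.mem_ker]
          exact ha
        · rintro ⟨hxA, hxK⟩
          refine ⟨⟨x, hxA⟩, ?_, rfl⟩
          rw [← hker, MonoidHom.mem_ker] at hxK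
          exact hxK
      rw [← h5, card_map_of_injective A.subtype_injective]
    have h6 : (f.comp A.subtype).range = A.map f := by
      ext y
      constructor
      · rintro ⟨a, rfl⟩
        exact ⟨a, a.2, rfl⟩
      · rintro ⟨a, ha, rfl⟩
        exact ⟨⟨a, ha⟩, rfl⟩
    rw [h4, h6, mul_comm] at h3
    exact h3
  have hXY : Nat.card X = Nat.card K * Nat.card (X ⧸ K) := by
    rw [← index_eq_card, card_mul_index]
  have hRbar : Nat.card ↥(R.map f) = r := by
    have := hmapcard R
    rwa [hRK, card_bot, mul_one, hR] at this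
  have hY2 : ¬ r ^ 2 ∣ Nat.card (X ⧸ K) := fun h => h2 (hXY ▸ (h.trans (dvd_mul_left _ _)))
  have hno : ∀ N : Subgroup (X ⧸ K), N.Normal → ¬ r ∣ Nat.card N → N = ⊥ := by
    intro N hN hrN
    have h3 : Nat.card ↥(N.comap f) = Nat.card K * Nat.card N := MaxCls.card_comap_quot K N
    have h4 := hKmax (N.comap f) ⟨hN.comap f, by
      rw [h3]
      intro h
      rcases hr.dvd_mul.1 h with h5 | h5
      · exact hrK h5
      · exact hrN h5⟩
    rw [h3] at h4
    have h5 : 0 < Nat.card K := Nat.card_pos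
    have h6 : 0 < Nat.card N := Nat.card_pos
    have h7 : Nat.card N ≤ 1 := by
      by_contra hlt
      push Not at hlt
      nlinarith
    exact card_eq_one.1 (le_antisymm h7 h6)
  obtain ⟨s, ν, t, e1, e2, e3, e4, e5, e6⟩ := struct_top hr hY2 hno (R.map f) hRbar
  set N := normalizer (R : Set X) with hN
  -- the normalizer in the quotient
  have hNbar : normalizer ((R.map f : Subgroup (X ⧸ K)) : Set (X ⧸ K)) = N.map f := by
    apply le_antisymm
    · intro y hy
      obtain ⟨x, rfl⟩ := hf y
      rw [← conj_eq_iff] at hy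
      set R' := R.map (MulAut.conj x).toMonoidHom with hR'
      have hR'c : Nat.card R' = r := by rw [hR', card_map_of_injective (MulAut.conj x).injective, hR]
      -- `R'` and `R` are Sylow subgroups of `L = K R`
      have hR'f : R'.map f = R.map f := by
        rw [← hy, hR', map_map, map_map]
        congr 1
      set L := K ⊔ R with hL
      have hRL : R ≤ L := le_sup_right
      have hR'L : R' ≤ L := by
        intro z hz
        have h3 : f z ∈ R.map f := by rw [← hR'f]; exact ⟨z, hz, rfl⟩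
        obtain ⟨w, hw, hw'⟩ := h3
        have h4 : z * w⁻¹ ∈ K := by
          rw [← hker, MonoidHom.mem_ker, map_mul, map_inv, hw', mul_inv_cancel]
        have h5 : z = (z * w⁻¹) * w := by group
        rw [h5]
        exact mul_mem (mem_sup_left h4) (mem_sup_right hw)
      have hL2 : ¬ r ^ 2 ∣ Nat.card L := fun h => h2 (h.trans (card_subgroup_dvd_card _))
      have hRLc : Nat.card (R'.subgroupOf L) = r := by
        rw [Nat.card_congr (subgroupOfEquivOfLe hR'L).toEquiv, hR'c]
      have hRLc2 : Nat.card (R.subgroupOf L) = r := by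
        rw [Nat.card_congr (subgroupOfEquivOfLe hRL).toEquiv, hR]
      obtain ⟨l, hl⟩ := exists_conj_le hr hL2 hRLc (L := R.subgroupOf L) (by rw [hRLc2])
      have hl' : R'.map (MulAut.conj (l : X)).toMonoidHom = R := by
        apply eq_of_le_of_card_ge
        · rintro _ ⟨z, hz, rfl⟩
          exact hl ⟨⟨z, hR'L hz⟩, hz, rfl⟩
        · rw [card_map_of_injective (MulAut.conj (l : X)).injective, hR'c, hR]
      have hlx : (l : X) * x ∈ N := by
        rw [hN, ← conj_eq_iff]
        have h7 : R.map (MulAut.conj ((l : X) * x)).toMonoidHom =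
            (R.map (MulAut.conj x).toMonoidHom).map (MulAut.conj (l : X)).toMonoidHom := by
          rw [map_map]
          congr 1
          ext z
          simp
        rw [h7]
        exact hl'
      have hlf : f (l : X) ∈ N.map f := by
        have hlL : (l : X) ∈ K ⊔ R := l.2
        rw [mem_sup_of_normal_left] at hlL
        obtain ⟨a, ha, b, hb, hab⟩ := hlL
        refine ⟨b, le_normalizer hb, ?_⟩
        rw [← hab, map_mul]
        have : f a = 1 := by rw [← MonoidHom.mem_ker, hker]; exact ha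
        rw [this, one_mul]
      have h8 : f x = (f (l : X))⁻¹ * f ((l : X) * x) := by rw [map_mul]; group
      rw [h8]
      exact mul_mem (inv_mem hlf) ⟨_, hlx, rfl⟩
    · rintro _ ⟨x, hx, rfl⟩
      rw [← conj_eq_iff]
      have h3 : R.map (MulAut.conj x).toMonoidHom = R := conj_eq_iff.2 hx
      conv_rhs => rw [← h3]
      rw [map_map, map_map]
      congr 1
  have hNc : Nat.card N = Nat.card ↥(N ⊓ K) * ν * t := by
    rw [← hmapcard N, ← hNbar, e2]
    ring
  refine ⟨Nat.card K, Nat.card ↥(N ⊓ K), s, ν, t, by rw [hXY, e1, mul_assoc], hNc, ?_,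
    card_dvd_of_le inf_le_right, hrK, e3, e4, e5, ?_, e6, ?_⟩
  · apply card_dvd_of_le
    intro x hx
    have hxN : x ∈ N := (mem_inf.1 hx).1
    have hxK : x ∈ K := (mem_inf.1 hx).2
    rw [mem_centralizer_iff]
    intro a ha
    have h3 : x * a * x⁻¹ * a⁻¹ ∈ R ⊓ K := by
      refine mem_inf.2 ⟨mul_mem ((mem_normalizer_iff.1 hxN a).1 ha) (inv_mem (show a ∈ R from ha)), ?_⟩
      have h4 : a * x⁻¹ * a⁻¹ ∈ K := hKn.conj_mem _ (inv_mem hxK) a
      have h5 : x * a * x⁻¹ * a⁻¹ = x * (a * x⁻¹ * a⁻¹) := by group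
      rw [h5]
      exact mul_mem hxK h4
    rw [hRK, mem_bot] at h3
    have h6 : x * a = a * x := by
      have := congrArg (· * a * x) h3
      simpa [mul_assoc] using this
    exact h6.symm
  · intro p hp
    haveI := Fact.mk hp
    by_cases hpr : p = r
    · subst hpr
      refine ⟨0, by simp, ?_⟩
      rw [Nat.factorization_eq_zero_of_not_dvd hrK]
    · -- an `R`-invariant Sylow `p`-subgroup of `K`
      let Q0 : Sylow p K := default
      set Q0' : Subgroup X := (Q0 : Subgroup K).map K.subtype with hQ0'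
      have hQ0K : Q0' ≤ K := map_subtype_le _
      have hfr : normalizer (Q0' : Set X) ⊔ K = ⊤ := Sylow.normalizer_sup_eq_top Q0
      have hrN : r ∣ Nat.card (normalizer (Q0' : Set X)) := by
        have h3 := card_sup_mul_card_inf K (normalizer (Q0' : Set X))
        rw [sup_comm, hfr, card_top] at h3
        have h4 : r ∣ Nat.card K * Nat.card (normalizer (Q0' : Set X)) := by
          rw [← h3]
          exact Dvd.dvd.mul_right (hR ▸ card_subgroup_dvd_card R) _
        exact (hr.dvd_mul.1 h4).resolve_left hrK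
      obtain ⟨g, hg⟩ := exists_conj_le hr h2 hR hrN
      -- `Q = Q0' conjugated by g⁻¹` is normalized by `R`
      set Q : Subgroup X := Q0'.map (MulAut.conj g⁻¹).toMonoidHom with hQ
      have hQK : Q ≤ K := by
        rintro _ ⟨z, hz, rfl⟩
        exact hKn.conj_mem _ (hQ0K hz) g⁻¹
      have hRQ : R ≤ normalizer (Q : Set X) := by
        intro a ha
        have h3 : g * a * g⁻¹ ∈ normalizer (Q0' : Set X) := hg ⟨a, ha, rfl⟩
        rw [← conj_eq_iff] at h3 ⊢
        rw [hQ, map_map]
        conv_rhs => rw [← h3, map_map]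
        congr 1
        ext z
        simp [mul_assoc]
      have hQc : Nat.card Q = p ^ ((Nat.card K).factorization p) := by
        rw [hQ, card_map_of_injective (MulAut.conj g⁻¹).injective, hQ0', card_map_of_injective K.subtype_injective]
        exact Q0.card_eq_multiplicity
      -- the action of `R` on `Q`
      letI : MulAction R Q := {
        smul := fun a z => ⟨(a : X) * z * (a : X)⁻¹, (mem_normalizer_iff.1 (hRQ a.2) z).1 z.2⟩
        one_smul := fun z => Subtype.ext (by show (1 : X) * z * (1 : X)⁻¹ = z; simp)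
        mul_smul := fun a b z => Subtype.ext (by
          show ((a : X) * b) * z * ((a : X) * b)⁻¹ = a * (b * z * (b : X)⁻¹) * (a : X)⁻¹
          group) }
      have hsm : ∀ (a : R) (z : Q), ((a • z : Q) : X) = (a : X) * z * (a : X)⁻¹ := fun _ _ => rfl
      have hRp : IsPGroup r R := IsPGroup.of_card (n := 1) (by rw [hR, pow_one])
      have hmod : Nat.card Q ≡ Nat.card (MulAction.fixedPoints R Q) [MOD r] := hRp.card_modEq_card_fixedPoints Q
      -- the fixed points
      set D : Subgroup X := Q ⊓ centralizer (R : Set X) with hD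
      have hDc : Nat.card (MulAction.fixedPoints R Q) = Nat.card D := by
        refine Nat.card_congr ?_
        refine ⟨fun z => ⟨((z : Q) : X), mem_inf.2 ⟨(z : Q).2, ?_⟩⟩, fun z => ⟨⟨(z : X), (mem_inf.1 z.2).1⟩, ?_⟩, fun z => rfl, fun z => rfl⟩
        · show ((z : Q) : X) ∈ centralizer (R : Set X)
          rw [mem_centralizer_iff]
          intro a ha
          have h3 := congrArg Subtype.val (z.2 ⟨a, ha⟩)
          rw [hsm] at h3
          have h4 : a * ((z : Q) : X) * a⁻¹ = ((z : Q) : X) := h3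
          calc a * ((z : Q) : X) = a * ((z : Q) : X) * a⁻¹ * a := by group
            _ = ((z : Q) : X) * a := by rw [h4]
        · intro a
          apply Subtype.ext
          rw [hsm]
          have h3 := (mem_centralizer_iff.1 (mem_inf.1 z.2).2) (a : X) a.2
          show (a : X) * (z : X) * (a : X)⁻¹ = z
          rw [h3]
          group
      have hDp : IsPGroup p D := by
        have h3 : IsPGroup p Q := IsPGroup.of_card hQc
        exact h3.to_le inf_le_left
      obtain ⟨j, hj⟩ := IsPGroup.iff_card.1 hDp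
      refine ⟨j, ?_, ?_⟩
      · rw [← hj]
        apply card_dvd_of_le
        intro z hz
        have hzQ : z ∈ Q := (mem_inf.1 hz).1
        have hzC : z ∈ centralizer (R : Set X) := (mem_inf.1 hz).2
        refine mem_inf.2 ⟨?_, hQK hzQ⟩
        rw [hN, mem_normalizer_iff]
        intro a
        have h3 : ∀ b ∈ R, z * b * z⁻¹ = b := by
          intro b hb
          rw [← (mem_centralizer_iff.1 hzC) b hb]
          group
        constructor
        · intro ha
          rw [h3 a ha]
          exact ha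
        · intro ha
          have h4 := h3 _ ha
          have h5 : z * a * z⁻¹ = a := by
            have h6 : z * (z * a * z⁻¹) * z⁻¹ = z * a * z⁻¹ := h4
            have h7 : z⁻¹ * (z * (z * a * z⁻¹) * z⁻¹) * z = z⁻¹ * (z * a * z⁻¹) * z := by rw [h6]
            have h8 : z⁻¹ * (z * (z * a * z⁻¹) * z⁻¹) * z = z * a * z⁻¹ := by group
            have h9 : z⁻¹ * (z * a * z⁻¹) * z = a := by group
            rw [h8, h9] at h7
            exact h7
          rw [← h5]
          exact ha
      · rw [← hQc, ← hj, ← hDc]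
        exact hmod
  · intro p hp
    haveI := Fact.mk hp
    let Q0 : Sylow p K := default
    set Q0' : Subgroup X := (Q0 : Subgroup K).map K.subtype with hQ0'
    have hQ0K : Q0' ≤ K := map_subtype_le _
    have hfr : normalizer (Q0' : Set X) ⊔ K = ⊤ := Sylow.normalizer_sup_eq_top Q0
    have hrN : r ∣ Nat.card (normalizer (Q0' : Set X)) := by
      have h3 := card_sup_mul_card_inf K (normalizer (Q0' : Set X))
      rw [sup_comm, hfr, card_top] at h3
      have h4 : r ∣ Nat.card K * Nat.card (normalizer (Q0' : Set X)) := by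
        rw [← h3]
        exact Dvd.dvd.mul_right (hR ▸ card_subgroup_dvd_card R) _
      exact (hr.dvd_mul.1 h4).resolve_left hrK
    obtain ⟨g, hg⟩ := exists_conj_le hr h2 hR hrN
    -- `Q = Q0' conjugated by g⁻¹` is normalized by `R`
    set Q : Subgroup X := Q0'.map (MulAut.conj g⁻¹).toMonoidHom with hQ
    have hQK : Q ≤ K := by
      rintro _ ⟨z, hz, rfl⟩
      exact hKn.conj_mem _ (hQ0K hz) g⁻¹
    have hRQ : R ≤ normalizer (Q : Set X) := by
      intro a ha
      have h3 : g * a * g⁻¹ ∈ normalizer (Q0' : Set X) := hg ⟨a, ha, rfl⟩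
      rw [← conj_eq_iff] at h3 ⊢
      rw [hQ, map_map]
      conv_rhs => rw [← h3, map_map]
      congr 1
      ext z
      simp [mul_assoc]
    have hQc : Nat.card Q = p ^ ((Nat.card K).factorization p) := by
      rw [hQ, card_map_of_injective (MulAut.conj g⁻¹).injective, hQ0', card_map_of_injective K.subtype_injective]
      exact Q0.card_eq_multiplicity
    exact ⟨Q, hQc, hRQ⟩

/-- the numbers of `struct` for a subgroup -/
theorem struct_subQ {G : Type u} [Group G] [Finite G] {l : List (ℕ × ℕ)} {n : ℕ} (hv : valid l n = true)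
    (hn : Nat.card G = n) {ords : List ℕ} (ho : Ords.{u} n ords) {ld : LD} (hl : Loc G ld) {H : Subgroup G}
    (hr : ld.r ∣ Nat.card H) : ∃ k s t : ℕ, Nat.card H = k * s * t ∧ t ∣ ld.N / ld.r ∧ s ∈ ld.r :: ords ∧
      ld.r ∣ s ∧ t ∈ divsT ld.fN ∧ ¬ ld.r ∣ k ∧ (∀ p : ℕ, p.Prime → okexp ld.r ld.C p (k.factorization p) = true) ∧
      nuc (divsT ld.fN) ld.r ld.N s t = true ∧
      (∃ y ∈ divsT ld.fN, ld.r ∣ y ∧ y ∣ Nat.card H ∧ (Nat.card H / y) % ld.r = 1 % ld.r) ∧
      (∀ p : ℕ, p.Prime → ∃ (Q R' : Subgroup G), Nat.card R' = ld.r ∧ Nat.card Q = p ^ (k.factorization p) ∧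
        R' ≤ normalizer (Q : Set G)) := by
  obtain ⟨hp, hfN, h2, hloc⟩ := hl
  haveI := Fact.mk hp
  have hH2 : ¬ ld.r ^ 2 ∣ Nat.card H := fun h => h2 (h.trans (card_subgroup_dvd_card H))
  obtain ⟨x, hx⟩ := exists_prime_orderOf_dvd_card' ld.r hr
  set R : Subgroup H := zpowers x with hR
  have hRc : Nat.card R = ld.r := by rw [hR, Nat.card_zpowers, hx]
  set R' : Subgroup G := R.map H.subtype with hR'
  have hR'c : Nat.card R' = ld.r := by rw [hR', card_map_of_injective H.subtype_injective, hRc]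
  obtain ⟨hC, hN⟩ := hloc R' hR'c
  have hNH : Nat.card (normalizer (R : Set H)) ∣ ld.N := by
    refine dvd_trans ?_ hN
    have h3 : (normalizer (R : Set H)).map H.subtype ≤ normalizer (R' : Set G) := by
      rintro _ ⟨a, ha, rfl⟩
      rw [mem_normalizer_iff]
      intro z
      constructor
      · rintro ⟨w, hw, rfl⟩
        exact ⟨_, (mem_normalizer_iff.1 ha w).1 hw, rfl⟩
      · rintro ⟨w, hw, hw'⟩
        have h4 : a⁻¹ * w * a ∈ R := by
          have h5 := (mem_normalizer_iff.1 ha (a⁻¹ * w * a)).2 (by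
            have h6 : a * (a⁻¹ * w * a) * a⁻¹ = w := by group
            rw [h6]
            exact hw)
          exact h5
        refine ⟨_, h4, ?_⟩
        have h7 : (w : G) = (a : G) * z * (a : G)⁻¹ := hw'
        show ((a⁻¹ * w * a : H) : G) = z
        push_cast
        rw [h7]
        group
    rw [← card_map_of_injective H.subtype_injective]
    exact card_dvd_of_le h3
  have hCH : Nat.card (centralizer (R : Set H)) ∣ ld.C := by
    refine dvd_trans ?_ hC
    have h3 : (centralizer (R : Set H)).map H.subtype ≤ centralizer (R' : Set G) := by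
      rintro _ ⟨a, ha, rfl⟩
      rw [mem_centralizer_iff]
      rintro _ ⟨w, hw, rfl⟩
      exact congrArg Subtype.val ((mem_centralizer_iff.1 ha) w hw)
    rw [← card_map_of_injective H.subtype_injective]
    exact card_dvd_of_le h3
  obtain ⟨k, c, s, ν, t, e1, e2, e3, e4, e5, e6, e7, e8, e9, e10, e11⟩ := structQ hp hH2 R hRc
  have hNpos : 0 < ld.N := prodl_pos hfN
  have hHpos : 0 < Nat.card H := Nat.card_pos
  have hkpos : k ≠ 0 := by
    rintro rfl
    rw [zero_mul, zero_mul] at e1
    omega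
  have hHn : Nat.card H ∣ n := hn ▸ card_subgroup_dvd_card H
  have htpos : 0 < t := Nat.pos_of_ne_zero (by rintro rfl; rw [mul_zero] at e1; omega)
  have hspos : 0 < s := Nat.pos_of_ne_zero (by rintro rfl; rw [mul_zero, zero_mul] at e1; omega)
  have hcpos : 0 < c := Nat.pos_of_dvd_of_pos e4 (Nat.pos_of_ne_zero hkpos)
  have hνpos : 0 < ν := Nat.pos_of_dvd_of_pos e7 hspos
  obtain ⟨ν', hν'⟩ := e6
  have hrN : ld.N = ld.r * (ld.N / ld.r) := by
    have h3 : ld.r ∣ ld.N := by
      refine dvd_trans ?_ hNH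
      rw [e2, hν']
      exact ⟨c * ν' * t, by ring⟩
    exact (Nat.mul_div_cancel' h3).symm
  have htN : t ∣ ld.N / ld.r := by
    have h3 : ld.r * t ∣ ld.N := by
      refine dvd_trans ?_ hNH
      rw [e2, hν']
      exact ⟨c * ν', by ring⟩
    rw [hrN] at h3
    exact Nat.dvd_of_mul_dvd_mul_left hp.pos h3
  have htN' : t ∣ ld.N := htN.trans (Nat.div_dvd_of_dvd (by rw [hrN]; exact dvd_mul_right _ _))
  refine ⟨k, s, t, e1, htN, ?_, ?_, mem_divsT hfN htN', e5, ?_, ?_, ?_, ?_⟩
  · rcases e10 with h | ⟨S, i1, i2, hS, hna, hSc⟩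
    · rw [h]
      exact List.mem_cons_self
    · rw [← hSc]
      refine List.mem_cons_of_mem _ (ho S hS hna ?_)
      rw [hSc]
      exact dvd_trans (by rw [e1]; exact ⟨k * t, by ring⟩) hHn
  · exact (Dvd.intro _ hν'.symm).trans e7
  · intro p hpp
    obtain ⟨j, hj, hjm⟩ := e9 p hpp
    unfold okexp
    rw [List.any_eq_true]
    have hjle : j ≤ k.factorization p := (hpp.pow_dvd_iff_le_factorization hkpos).1 (hj.trans e4)
    refine ⟨j, List.mem_range.2 (by omega), ?_⟩
    rw [Bool.and_eq_true, beq_iff_eq, beq_iff_eq]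
    refine ⟨Nat.mod_eq_zero_of_dvd ((hj.trans e3).trans hCH), ?_⟩
    by_cases hpr : p = ld.r
    · have h3 : k.factorization p = 0 := by
        rw [hpr]
        exact Nat.factorization_eq_zero_of_not_dvd e5
      have h4 : j = 0 := by omega
      rw [h3, h4, Nat.sub_zero, pow_zero]
    · have h3 : p ^ (k.factorization p) = p ^ j * p ^ (k.factorization p - j) := by
        rw [← pow_add]
        congr 1
        omega
      have h4 : p ^ j * p ^ (k.factorization p - j) ≡ p ^ j * 1 [MOD ld.r] := by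
        rw [← h3, mul_one]
        exact hjm
      have h5 : Nat.gcd ld.r (p ^ j) = 1 := by
        apply Nat.Coprime.pow_right
        exact (Nat.coprime_primes hp hpp).2 (Ne.symm hpr)
      exact Nat.ModEq.cancel_left_of_coprime h5 h4
  · unfold nuc
    rw [Bool.or_eq_true, List.any_eq_true]
    right
    refine ⟨ν, mem_divsT hfN (dvd_trans ?_ hNH), ?_⟩
    · rw [e2]
      exact ⟨c * t, by ring⟩
    · rw [Bool.and_eq_true, Bool.and_eq_true, Bool.and_eq_true, beq_iff_eq, beq_iff_eq, beq_iff_eq, beq_iff_eq]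
      refine ⟨⟨⟨Nat.mod_eq_zero_of_dvd ⟨ν', hν'⟩, Nat.mod_eq_zero_of_dvd ?_⟩, Nat.mod_eq_zero_of_dvd e7⟩, e8⟩
      obtain ⟨z, hz⟩ := hNH
      rw [hz, e2]
      refine ⟨c * z, ?_⟩
      apply Nat.div_eq_of_eq_mul_left htpos
      ring
  · refine ⟨Nat.card (normalizer (R : Set H)), mem_divsT hfN hNH, ?_, card_subgroup_dvd_card _, ?_⟩
    · rw [e2, hν']
      exact ⟨c * ν' * t, by ring⟩
    · have hidx : ¬ ld.r ∣ R.index := by
        intro h
        apply hH2
        rw [← card_mul_index R, hRc, pow_two]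
        exact Nat.mul_dvd_mul_left ld.r h
      have hRp : IsPGroup ld.r R := IsPGroup.of_card (n := 1) (by rw [hRc, pow_one])
      have h3 : Nat.card (Sylow ld.r H) ≡ 1 [MOD ld.r] := card_sylow_modEq_one ld.r H
      rw [Sylow.card_eq_index_normalizer (hRp.toSylow hidx)] at h3
      have h4 : Nat.card H / Nat.card (normalizer (R : Set H)) = (normalizer (R : Set H)).index := by
        apply Nat.div_eq_of_eq_mul_right Nat.card_pos
        exact (card_mul_index _).symm
      rw [h4]
      exact h3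
  · intro p hpp
    obtain ⟨Q, hQ, hRQ⟩ := e11 p hpp
    refine ⟨Q.map H.subtype, R', hR'c, by rw [card_map_of_injective H.subtype_injective, hQ], ?_⟩
    rw [hR']
    rintro _ ⟨a, ha, rfl⟩
    have h3 := hRQ ha
    rw [mem_normalizer_iff]
    intro z
    constructor
    · rintro ⟨w, hw, rfl⟩
      exact ⟨_, (mem_normalizer_iff.1 h3 w).1 hw, rfl⟩
    · rintro ⟨w, hw, hw'⟩
      have h4 : a⁻¹ * w * a ∈ Q := by
        refine (mem_normalizer_iff.1 h3 (a⁻¹ * w * a)).2 ?_
        have h6 : a * (a⁻¹ * w * a) * a⁻¹ = w := by group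
        rw [h6]
        exact hw
      refine ⟨_, h4, ?_⟩
      have h7 : (w : G) = (a : G) * z * (a : G)⁻¹ := hw'
      show ((a⁻¹ * w * a : H) : G) = z
      push_cast
      rw [h7]
      group

/-! ### the engine -/

/-- `allK` with a general condition on the exponents -/
def allKE (E : ℕ → ℕ → Bool) (n : ℕ) (P : ℕ → Bool) : List (ℕ × ℕ) → ℕ → Bool
  | [], m => P m
  | x :: l, m => (List.range (x.2 + 1)).all fun a => !(E x.1 a) || n % (m * x.1 ^ a) != 0 || allKE E n P l (m * x.1 ^ a)

theorem allKE_sound {E : ℕ → ℕ → Bool} {n : ℕ} {P : ℕ → Bool} : ∀ {l : List (ℕ × ℕ)} {m : ℕ}, allKE E n P l m = true →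
    ∀ (f : ℕ → ℕ), (∀ x ∈ l, f x.1 ≤ x.2 ∧ E x.1 (f x.1) = true) →
      m * (l.map fun x => x.1 ^ f x.1).prod ∣ n → P (m * (l.map fun x => x.1 ^ f x.1).prod) = true := by
  intro l
  induction l with
  | nil =>
    intro m h f _ _
    rw [List.map_nil, List.prod_nil, mul_one]
    exact h
  | cons x l ih =>
    intro m h f hf hd
    unfold allKE at h
    rw [List.all_eq_true] at h
    have hx := hf x List.mem_cons_self
    have h1 := h (f x.1) (List.mem_range.2 (by omega))
    rw [List.map_cons, List.prod_cons, ← mul_assoc] at hd ⊢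
    rw [Bool.or_eq_true, Bool.or_eq_true, hx.2, bne_iff_ne] at h1
    rcases h1 with (h1 | h1) | h1
    · exact absurd h1 (by decide)
    · exact absurd (Nat.mod_eq_zero_of_dvd ((dvd_mul_right _ _).trans hd)) h1
    · exact ih h1 f (fun y hy => hf y (List.mem_cons_of_mem _ hy)) hd

/-- `chkP` with the forbidden exponents `vt` -/
def chkV (l : List (ℕ × ℕ)) (n a : ℕ) (ld : LD) (vt : List (ℕ × ℕ)) (P : ℕ → Bool) (full : List ℕ) (bd : ℕ)
    (loc : List LD) (ords : List ℕ) : Bool :=
  a % ld.r == 0 && (ld.r :: ords).all fun s => s % ld.r != 0 || n % s != 0 || (divsT ld.fN).all fun t =>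
    (ld.N / ld.r) % t != 0 || n % (s * t) != 0 || !(nuc (divsT ld.fN) ld.r ld.N s t) ||
      allKE (fun p e => okexp ld.r ld.C p e && !(vt.contains (p, e))) n
        (fun m => m % a != 0 || m == n || P m || bad l n full bd loc ords m) l (s * t)

variable {G : Type u} [Group G] {l : List (ℕ × ℕ)} {n : ℕ} {ords : List ℕ} {loc : List LD}

/-- the orders of the proper subgroups of order divisible by `a` satisfy `P`; `vt` : pairs `(p, e)` such that no subgroup
of order `p ^ e` is normalized by a subgroup of order `ld.r` -/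
theorem ordersV (c : Ctx G l n ords loc) {a : ℕ} (ld : LD) (hld : ld ∈ loc) (vt : List (ℕ × ℕ))
    (hvt : ∀ x ∈ vt, ∀ Q R : Subgroup G, Nat.card R = ld.r → Nat.card Q = x.1 ^ x.2 → R ≤ normalizer (Q : Set G) → False)
    (P : ℕ → Bool) (full : List ℕ) (bd : ℕ) (hc : chkV l n a ld vt P full bd loc ords = true) {K : Subgroup G}
    (ha : a ∣ Nat.card K) (hf : ∀ p ∈ full, Full p K) (hK : K ≠ ⊤) : P (Nat.card K) = true := by
  haveI := c.fin
  haveI := c.simple
  unfold chkV at hc
  rw [Bool.and_eq_true, beq_iff_eq, List.all_eq_true] at hc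
  obtain ⟨hc1, hc2⟩ := hc
  have hr : ld.r ∣ Nat.card K := (Nat.dvd_of_mod_eq_zero hc1).trans ha
  obtain ⟨k, s, t, e1, e2, e3, e4, e5, e6, e7, e8, -, e9⟩ := struct_subQ c.val c.card c.ords (c.loc ld hld) hr
  have hHn : Nat.card K ∣ n := c.card ▸ card_subgroup_dvd_card K
  have hkn : k ∣ n := dvd_trans (by rw [e1]; exact ⟨s * t, by ring⟩) hHn
  have h1 := hc2 s e3
  rw [Bool.or_eq_true, Bool.or_eq_true, bne_iff_ne, bne_iff_ne, List.all_eq_true] at h1
  rcases h1 with (h1 | h1) | h1
  · exact absurd (Nat.mod_eq_zero_of_dvd e4) h1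
  · exact absurd (Nat.mod_eq_zero_of_dvd (dvd_trans (by rw [e1]; exact ⟨k * t, by ring⟩) hHn)) h1
  · have h2 := h1 t e5
    rw [Bool.or_eq_true, Bool.or_eq_true, Bool.or_eq_true, bne_iff_ne, bne_iff_ne, e8] at h2
    rcases h2 with ((h2 | h2) | h2) | h2
    · exact absurd (Nat.mod_eq_zero_of_dvd e2) h2
    · exact absurd (Nat.mod_eq_zero_of_dvd (dvd_trans (by rw [e1]; exact ⟨k, by ring⟩) hHn)) h2
    · exact absurd h2 (by decide)
    · have h3 := allKE_sound h2 (fun p => k.factorization p) (fun x hx => ⟨?_, ?_⟩)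
      · rw [prod_factor c.val c.nodup hkn] at h3
        have h4 : s * t * k = Nat.card K := by rw [e1]; ring
        rw [h4] at h3
        have h5 := h3 hHn
        rw [Bool.or_eq_true, Bool.or_eq_true, Bool.or_eq_true, bne_iff_ne, beq_iff_eq,
          not_bad c.val c.card c.ords c.loc hf hK] at h5
        rcases h5 with ((h5 | h5) | h5) | h5
        · exact absurd (Nat.mod_eq_zero_of_dvd ha) h5
        · exact absurd ((card_eq_iff_eq_top K).1 (by rw [h5, c.card])) hK
        · exact h5
        · exact absurd h5 (by decide)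
      · by_contra hlt
        push Not at hlt
        have h6 : x.1 ^ (x.2 + 1) ∣ k := (pow_dvd_pow _ hlt).trans (Nat.ordProj_dvd _ _)
        exact valid_exact c.val x hx (h6.trans hkn)
      · rw [Bool.and_eq_true, Bool.not_eq_true', e7 _ (valid_prime c.val x hx)]
        refine ⟨rfl, ?_⟩
        rw [← Bool.not_eq_true, List.contains_iff_mem]
        intro hmem
        obtain ⟨Q, R', h7, h8, h9⟩ := e9 x.1 (valid_prime c.val x hx)
        exact hvt _ hmem Q R' h7 h8 h9

/-- **FROB by the order engine, with forbidden exponents.** -/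
theorem frobRow_of_engV (ctx : Ctx G l n ords loc)
    (hC : ∀ ld ∈ loc, 0 < ld.C) (hnd : (loc.map fun ld => ld.r).Nodup) {c p q : ℕ} (hp : p.Prime) (hq : q.Prime)
    (hpn : p ∣ n)
    (hN : ∀ R : Subgroup G, Nat.card R = p → q ∣ Nat.card (normalizer (R : Set G)) ∧
      ¬ q ∣ Nat.card (centralizer (R : Set G)))
    (ldp ldq : LD) (hldp : ldp ∈ loc) (hldq : ldq ∈ loc) (vp vq : List (ℕ × ℕ))
    (hvp : ∀ x ∈ vp, ∀ Q R : Subgroup G, Nat.card R = ldp.r → Nat.card Q = x.1 ^ x.2 → R ≤ normalizer (Q : Set G) → False)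
    (hvq : ∀ x ∈ vq, ∀ Q R : Subgroup G, Nat.card R = ldq.r → Nat.card Q = x.1 ^ x.2 → R ≤ normalizer (Q : Set G) → False)
    (bd : ℕ) (hcp : chkV l n p ldp vp (chkF c n loc) [] bd loc ords = true)
    (hcq : chkV l n q ldq vq (chkF c n loc) [] bd loc ords = true) (D : Set ℕ) : FrobRow c D G := by
  have := ctx.fin
  have : Fact p.Prime := ⟨hp⟩
  have : Fact q.Prime := ⟨hq⟩
  obtain ⟨y, hy⟩ := exists_prime_orderOf_dvd_card' (G := G) p (by rw [ctx.card]; exact hpn)
  have hP : Nat.card (zpowers y : Subgroup G) = p := by rw [Nat.card_zpowers, hy]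
  obtain ⟨hNq, hCq⟩ := hN _ hP
  obtain ⟨w, hw⟩ := exists_prime_orderOf_dvd_card' (G := normalizer ((zpowers y : Subgroup G) : Set G)) q hNq
  have hw' : orderOf (w : G) = q := by rw [Subgroup.orderOf_coe, hw]
  have hQ : Nat.card (zpowers (w : G) : Subgroup G) = q := by rw [Nat.card_zpowers, hw']
  refine ⟨zpowers y, zpowers (w : G), by rw [hP]; exact hp, ?_, ?_, ?_, ?_⟩
  · rw [zpowers_le]
    exact w.2
  · intro u hu g hg hgu
    by_contra hcon
    push Not at hcon
    obtain ⟨hu1, hg1⟩ := hcon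
    apply hCq
    have h1 : zpowers u = zpowers y := by
      apply Subgroup.eq_of_le_of_card_ge (zpowers_le.2 hu)
      rw [hP, Nat.card_zpowers]
      refine Nat.le_of_dvd (orderOf_pos u) ?_
      rcases (Nat.dvd_prime hp).1 (hP ▸ (Nat.card_zpowers u ▸ Subgroup.card_dvd_of_le (zpowers_le.2 hu))) with h | h
      · exact absurd (orderOf_eq_one_iff.1 h) hu1
      · rw [h]
    have h2 : g ∈ centralizer ((zpowers y : Subgroup G) : Set G) := by
      rw [← h1, mem_centralizer_iff]
      intro x hx
      obtain ⟨k, rfl⟩ := mem_zpowers_iff.1 hx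
      exact ((show Commute g u from hgu).zpow_right k).symm
    have h3 : orderOf g = q := by
      rcases (Nat.dvd_prime hq).1 (hQ ▸ (Nat.card_zpowers g ▸ Subgroup.card_dvd_of_le (zpowers_le.2 hg))) with h | h
      · exact absurd (orderOf_eq_one_iff.1 h) hg1
      · exact h
    rw [← h3, ← Subgroup.orderOf_mk g h2]
    exact orderOf_dvd_natCard _
  · intro h
    rw [h, Subgroup.card_bot] at hQ
    exact hq.one_lt.ne hQ
  · intro T hT hPQ _
    rw [ctx.card]
    refine le_of_chkF ctx.loc hC hnd T ?_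
    rcases hPQ with h | h
    · exact ordersV ctx ldp hldp vp hvp _ [] bd hcp (hP ▸ Subgroup.card_dvd_of_le h) (by simp) hT
    · exact ordersV ctx ldq hldq vq hvq _ [] bd hcq (hQ ▸ Subgroup.card_dvd_of_le h) (by simp) hT

end Cfsg.Agent.H755.S8
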